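import Groth.Prelude.Def_RootCh
import Groth.Agent.Lib.RootDatum.Base
import Groth.Agent.Lib.RootDatum.Dominant
import Mathlib.LinearAlgebra.RootSystem.BaseExists
import Mathlib.LinearAlgebra.QuadraticForm.Dual

/-! Chambers of a root system over an ordered field as bases. -/

set_option linter.unusedSectionVars false

namespace GrothLib.RootCh

open Function Set Module RootPairing _root_.RootCh

universe u v w x

variable {ι : Type u} {R : Type v} {M : Type w} {N : Type x}
  [Field R] [LinearOrder R] [IsStrictOrderedRing R]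
  [AddCommGroup M] [Module R M] [AddCommGroup N] [Module R N] [Fintype ι]
  {P : RootPairing ι R M N} [P.IsRootSystem] [P.IsCrystallographic] [P.IsReduced]

/-- The functional "pairing with the root `i` for the invariant form". -/
noncomputable abbrev bf (P : RootPairing ι R M N) (i : ι) (x : M) : R := P.RootForm (P.root i) x

theorem two_bf (i : ι) (x : M) :
    2 * bf P i x = P.coroot' i x * P.RootForm (P.root i) (P.root i) := by
  have h := P.rootForm_reflection_reflection_apply i x (P.root i)
  rw [RootPairing.reflection_apply_self, RootPairing.reflection_apply, map_neg, map_sub,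
    LinearMap.sub_apply, map_smul, LinearMap.smul_apply, smul_eq_mul] at h
  have hs : P.RootForm (P.root i) x = P.RootForm x (P.root i) := P.rootForm_symmetric.eq _ _
  show 2 * P.RootForm (P.root i) x = _
  rw [hs]
  linarith

theorem bf_self_pos (i : ι) : 0 < P.RootForm (P.root i) (P.root i) :=
  P.rootForm_pos_of_ne_zero (Submodule.subset_span ⟨i, rfl⟩) (P.ne_zero i)

theorem rootForm_pos {x : M} (hx : x ≠ 0) : 0 < P.RootForm x x :=
  P.rootForm_pos_of_ne_zero (by simp) hx

theorem sign_bf (i : ι) (x : M) :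
    SignType.sign (bf P i x) = SignType.sign (P.coroot' i x) := by
  have h := two_bf (P := P) i x
  have hp := bf_self_pos (P := P) i
  rcases lt_trichotomy (P.coroot' i x) 0 with hl | hl | hl
  · rw [sign_neg hl, sign_neg (show bf P i x < 0 by nlinarith)]
  · rw [hl, show bf P i x = 0 by rw [hl] at h; linarith]
  · rw [sign_pos hl, sign_pos (show 0 < bf P i x by nlinarith)]

theorem coroot'_pos_iff (i : ι) (x : M) : 0 < P.coroot' i x ↔ 0 < bf P i x := by
  rw [← sign_eq_one_iff, ← sign_eq_one_iff, sign_bf]

theorem coroot'_nonneg_iff (i : ι) (x : M) : 0 ≤ P.coroot' i x ↔ 0 ≤ bf P i x := by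
  have h := two_bf (P := P) i x
  have hp := bf_self_pos (P := P) i
  constructor <;> intro h' <;> nlinarith

theorem coroot'_eq_zero_iff (i : ι) (x : M) : P.coroot' i x = 0 ↔ bf P i x = 0 := by
  rw [← sign_eq_zero_iff, ← sign_eq_zero_iff (a := bf P i x), sign_bf]

theorem root'_polarization (i : ι) (x : M) : P.root' i (P.Polarization x) = bf P i x := by
  show P.toLinearMap (P.root i) (P.Polarization x) = _
  rw [P.toLinearMap_apply_apply_Polarization]
  exact P.rootForm_symmetric.eq _ _

theorem root_nr (i : ι) : P.root (P.reflectionPerm i i) = -P.root i := by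
  rw [root_reflectionPerm, RootPairing.reflection_apply_self]

theorem coroot_nr (i : ι) : P.coroot (P.reflectionPerm i i) = -P.coroot i := by
  rw [coroot_reflectionPerm, RootPairing.coreflection_apply_self]

theorem bf_nr (i : ι) (x : M) : bf P (P.reflectionPerm i i) x = -bf P i x := by
  simp [bf, root_nr]

theorem coroot'_nr (i : ι) (x : M) : P.coroot' (P.reflectionPerm i i) x = -P.coroot' i x := by
  show P.toLinearMap x (P.coroot _) = -P.toLinearMap x (P.coroot i)
  rw [coroot_nr, map_neg]

theorem bf_add {i j k : ι} (h : P.root k = P.root i + P.root j) (x : M) :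
    bf P k x = bf P i x + bf P j x := by
  simp [bf, h]

theorem sgnVec_eq (x : M) (i : ι) : sgnVec P x i = SignType.sign (bf P i x) :=
  (sign_bf i x).symm

theorem isPos_nr (b : P.Base) (i : ι) : b.IsPos (P.reflectionPerm i i) ↔ ¬ b.IsPos i :=
  Base.IsPos.neg_iff_not b i

/-- The coefficient of the root `i` along the simple root `j`. -/
noncomputable abbrev cf (b : P.Base) (i : ι) (j : b.support) : R := P.root' i (fundCoweight b j)

theorem cf_simple (b : P.Base) (i j : b.support) [Decidable (i = j)] :
    cf b i j = if i = j then 1 else 0 := by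
  split_ifs with h
  · subst h; exact root'_fundCoweight_self b i
  · exact root'_fundCoweight_of_ne b j i h

theorem cf_add (b : P.Base) {i j k : ι} (h : P.root k = P.root i + P.root j) (l : b.support) :
    cf b k l = cf b i l + cf b j l := by
  simp [cf, RootPairing.root', h]

theorem cf_nr (b : P.Base) (i : ι) (l : b.support) :
    cf b (P.reflectionPerm i i) l = -cf b i l := by
  show P.toLinearMap (P.root _) _ = -P.toLinearMap (P.root i) _
  rw [root_nr, map_neg, LinearMap.neg_apply]

theorem isInt_cf (b : P.Base) (i : ι) (l : b.support) : ∃ z : ℤ, cf b i l = z := by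
  classical
  refine Base.induction_add (b := b) i (p := fun i => ∃ z : ℤ, cf b i l = z) ?_ ?_ ?_
  · rintro i ⟨z, hz⟩; exact ⟨-z, by rw [cf_nr, hz]; simp⟩
  · intro i hi; rw [cf_simple b ⟨i, hi⟩ l]; split_ifs <;> [exact ⟨1, by simp⟩; exact ⟨0, by simp⟩]
  · rintro i j k hk ⟨z, hz⟩ hj
    rw [cf_add b hk, hz, cf_simple b ⟨j, hj⟩ l]
    split_ifs <;> [exact ⟨z + 1, by simp⟩; exact ⟨z, by simp⟩]

theorem cf_nonneg (b : P.Base) {i : ι} (hi : b.IsPos i) (l : b.support) : 0 ≤ cf b i l := by
  classical
  refine hi.induction_on_add (p := fun i => 0 ≤ cf b i l) ?_ ?_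
  · intro i hi; rw [cf_simple b ⟨i, hi⟩ l]; split_ifs <;> simp
  · intro i j k hk hp hj
    rw [cf_add b hk, cf_simple b ⟨j, hj⟩ l]
    split_ifs <;> linarith

theorem root_eq_sum (b : P.Base) (i : ι) : P.root i = ∑ l : b.support, cf b i l • P.root l := by
  classical
  refine Base.induction_add (b := b) i
    (p := fun i => P.root i = ∑ l : b.support, cf b i l • P.root l) ?_ ?_ ?_
  · intro i hi
    conv_lhs => rw [root_nr, hi]
    simp only [cf_nr, neg_smul, Finset.sum_neg_distrib]
  · intro i hi
    simp only [cf_simple b ⟨i, hi⟩, ite_smul, one_smul, zero_smul, Finset.sum_ite_eq,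
      Finset.mem_univ, if_true]
  · intro i j k hk hp hj
    conv_lhs => rw [hk, hp]
    simp only [cf_add b hk, add_smul, Finset.sum_add_distrib, cf_simple b ⟨j, hj⟩, ite_smul,
      one_smul, zero_smul, Finset.sum_ite_eq, Finset.mem_univ, if_true]

theorem bf_eq_sum (b : P.Base) (i : ι) (x : M) :
    bf P i x = ∑ l : b.support, cf b i l * bf P l x := by
  simp only [bf]
  conv_lhs => rw [root_eq_sum b i]
  simp [map_sum, map_smul, LinearMap.sum_apply]

theorem mem_closedChamber_iff (b : P.Base) (x : M) :
    x ∈ closedChamber b ↔ ∀ i, b.IsPos i → 0 ≤ bf P i x := by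
  refine ⟨fun h i hi => ?_, fun h i hi => (coroot'_nonneg_iff i x).2 (h i (Base.isPos_of_mem_support hi))⟩
  rw [bf_eq_sum b i]
  exact Finset.sum_nonneg fun l _ =>
    mul_nonneg (cf_nonneg b hi l) ((coroot'_nonneg_iff _ x).1 (h l l.2))

theorem mem_openChamber_iff (b : P.Base) (x : M) :
    x ∈ openChamber b ↔ ∀ i, b.IsPos i ↔ 0 < bf P i x := by
  constructor
  · intro h
    have hpos : ∀ i, b.IsPos i → 0 < bf P i x := fun i hi =>
      hi.induction_on_add (p := fun i => 0 < bf P i x)
        (fun i hi => (coroot'_pos_iff i x).1 (h i hi))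
        fun i j k hk hp hj => by
          rw [bf_add hk]; exact add_pos hp ((coroot'_pos_iff j x).1 (h j hj))
    refine fun i => ⟨hpos i, fun hi => ?_⟩
    by_contra hn
    have := hpos _ ((isPos_nr b i).2 hn)
    rw [bf_nr] at this
    linarith
  · exact fun h i hi => (coroot'_pos_iff i x).2 ((h i).1 (Base.isPos_of_mem_support hi))

theorem coroot'_sum_smul_fundWeight (b : P.Base) (c : b.support → R) (j : b.support) :
    P.coroot' j (∑ l, c l • fundWeight b l) = c j := by
  rw [map_sum, Finset.sum_eq_single j]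
  · rw [map_smul, coroot'_fundWeight_self, smul_eq_mul, mul_one]
  · intro l _ hl
    rw [map_smul, coroot'_fundWeight_of_ne b l j (Ne.symm hl), smul_zero]
  · simp

theorem eq_of_coroot'_eq (b : P.Base) {x y : M}
    (h : ∀ j : b.support, P.coroot' j x = P.coroot' j y) : x = y := by
  apply P.toPerfPair.injective
  refine b.toCoweightBasis.ext fun j => ?_
  rw [b.toCoweightBasis_apply]
  exact h j

theorem eq_sum_fundWeight (b : P.Base) (x : M) :
    x = ∑ l : b.support, P.coroot' l x • fundWeight b l :=
  eq_of_coroot'_eq b fun j => (coroot'_sum_smul_fundWeight b (fun l => P.coroot' l x) j).symm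

/-- A point of the open chamber. -/
noncomputable def rho (b : P.Base) : M := ∑ l : b.support, fundWeight b l

theorem coroot'_rho (b : P.Base) (j : b.support) : P.coroot' j (rho b) = 1 := by
  simpa [rho] using coroot'_sum_smul_fundWeight b (fun _ => 1) j

theorem rho_mem_openChamber (b : P.Base) : rho b ∈ openChamber b := fun i hi => by
  rw [coroot'_rho b ⟨i, hi⟩]; exact one_pos

theorem bf_rho_ne_zero (b : P.Base) (i : ι) : bf P i (rho b) ≠ 0 := fun h0 => by
  by_cases hi : b.IsPos i
  · exact ((mem_openChamber_iff b _).1 (rho_mem_openChamber b) i).1 hi |>.ne' h0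
  · have := ((mem_openChamber_iff b _).1 (rho_mem_openChamber b) _).1 ((isPos_nr b i).2 hi)
    rw [bf_nr, h0, neg_zero] at this
    exact this.false

theorem base_eq_of_isPos {b b' : P.Base} (h : ∀ i, b.IsPos i → b'.IsPos i) : b = b' := by
  have h' : {i | b'.IsPos i} = {i | b.IsPos i} := by
    refine Set.ext fun i => ⟨fun hi => ?_, h i⟩
    by_contra hn
    exact (isPos_nr b' i).1 (h _ ((isPos_nr b i).2 hn)) hi
  rw [GrothLib.RootDatum.setOf_isPos, GrothLib.RootDatum.setOf_isPos] at h'
  have h2 := congrArg (GrothLib.RootDatum.simpleOf P) h'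
  rw [(GrothLib.RootDatum.IsSimple.of_base P b').simpleOf_posOf,
    (GrothLib.RootDatum.IsSimple.of_base P b).simpleOf_posOf] at h2
  cases b; cases b'
  simp only [Finset.coe_inj] at h2
  subst h2; rfl

theorem eq_of_openChamber {b b' : P.Base} {x : M} (h : x ∈ openChamber b) (h' : x ∈ openChamber b') :
    b = b' :=
  base_eq_of_isPos fun i hi =>
    ((mem_openChamber_iff b' x).1 h' i).2 (((mem_openChamber_iff b x).1 h i).1 hi)

theorem exists_base_openChamber (x : M) (hx : ∀ i, bf P i x ≠ 0) :
    ∃ b : P.Base, x ∈ openChamber b := by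
  classical
  have hS : RootD.IsPosSys P {i | 0 < bf P i x} :=
    GrothLib.RootDatum.isPosSys_of_hom (fun i => bf P i x) hx (fun i => bf_nr i x)
      fun i j k h => bf_add h x
  set Δ := GrothLib.RootDatum.simpleOf P {i | 0 < bf P i x} with hΔ
  have hpos : ∀ i ∈ Δ, 0 < bf P i x := GrothLib.RootDatum.simpleOf_subset _
  have hli : LinearIndepOn R P.root Δ := by
    refine LinearMap.BilinForm.linearIndependent_of_pairwise_le_zero P.RootForm
      ?_ (P.RootForm x) _ (fun i => ?_) ?_
    · exact fun y hy => rootForm_pos hy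
    · have := hpos i i.2
      exact lt_of_lt_of_eq this (P.rootForm_symmetric.eq _ _)
    · rintro ⟨i, hi⟩ ⟨j, hj⟩ hij
      have hp := GrothLib.RootDatum.pz_le_zero_of_mem_simpleOf hS hi hj
        (fun e => hij (Subtype.ext e))
      have hcast : P.pairing i j ≤ 0 := by
        rw [← GrothLib.RootDatum.cast_pz P i j]; exact_mod_cast hp
      have h2 := two_bf (P := P) j (P.root i)
      show P.RootForm (P.root i) (P.root j) ≤ 0
      have hsymm : bf P j (P.root i) = P.RootForm (P.root i) (P.root j) :=
        P.rootForm_symmetric.eq _ _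
      rw [hsymm, show P.coroot' j (P.root i) = P.pairing i j from rfl] at h2
      nlinarith [bf_self_pos (P := P) j]
  have hsp : ∀ i, P.root i ∈ AddSubmonoid.closure (P.root '' Δ) ∨
      -P.root i ∈ AddSubmonoid.closure (P.root '' Δ) := fun i => by
    rcases lt_or_gt_of_ne (hx i) with h | h
    · right
      rw [← root_nr]
      exact GrothLib.RootDatum.mem_natSpan_simpleOf hS (show 0 < bf P _ x by rw [bf_nr]; linarith)
    · exact Or.inl (GrothLib.RootDatum.mem_natSpan_simpleOf hS h)
  refine ⟨Base.mk' P Δ hli hsp, fun i hi => (coroot'_pos_iff i x).2 (hpos i ?_)⟩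
  simpa [Base.mk'] using hi

theorem exists_generic : ∃ x : M, ∀ i, bf P i x ≠ 0 := by
  obtain ⟨b⟩ := P.nonempty_base
  exact ⟨rho b, bf_rho_ne_zero b⟩

/-- Moving slightly from `x` towards `y`. -/
theorem exists_perturb (x y : M) :
    ∃ t : R, 0 < t ∧ ∀ i, bf P i x ≠ 0 →
      SignType.sign (bf P i (x + t • y)) = SignType.sign (bf P i x) := by
  classical
  set g : ι → R := fun i => if bf P i x = 0 then 0 else |bf P i y| / |bf P i x| with hg
  have hg0 : ∀ i, 0 ≤ g i := fun i => by
    simp only [hg]; split_ifs <;> positivity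
  have hpos : 0 < ∑ i, g i + 1 := by
    have := Finset.sum_nonneg (s := Finset.univ) fun i _ => hg0 i
    linarith
  refine ⟨(∑ i, g i + 1)⁻¹, inv_pos.2 hpos, fun i hi => ?_⟩
  have h1 : g i < ∑ j, g j + 1 := by
    have := Finset.single_le_sum (fun j _ => hg0 j) (Finset.mem_univ i)
    linarith
  have hai : 0 < |bf P i x| := abs_pos.2 hi
  rw [show g i = |bf P i y| / |bf P i x| from if_neg hi, div_lt_iff₀ hai] at h1
  have h2 : |(∑ i, g i + 1)⁻¹ * bf P i y| < |bf P i x| := by
    rw [abs_mul, abs_of_pos (inv_pos.2 hpos), inv_mul_lt_iff₀ hpos]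
    linarith
  have h3 : bf P i (x + (∑ i, g i + 1)⁻¹ • y) = bf P i x + (∑ i, g i + 1)⁻¹ * bf P i y := by
    simp [bf]
  rw [h3]
  rcases lt_or_gt_of_ne hi with h | h
  · rw [sign_neg h, sign_neg]
    rw [abs_of_neg h] at h2
    linarith [le_abs_self ((∑ i, g i + 1)⁻¹ * bf P i y)]
  · rw [sign_pos h, sign_pos]
    rw [abs_of_pos h] at h2
    linarith [neg_abs_le ((∑ i, g i + 1)⁻¹ * bf P i y)]

end GrothLib.RootCh
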