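import Groth.Agent.Lib.RootCh.Basic
import Groth.Prelude.Def_RootCh2

/-! Facets of a root system in terms of an adjacent chamber. -/

set_option linter.unusedSectionVars false

namespace GrothLib.RootCh

open Function Set Module RootPairing _root_.RootCh

universe u v w x

variable {ι : Type u} {R : Type v} {M : Type w} {N : Type x}
  [Field R] [LinearOrder R] [IsStrictOrderedRing R]
  [AddCommGroup M] [Module R M] [AddCommGroup N] [Module R N] [Fintype ι]
  {P : RootPairing ι R M N} [P.IsRootSystem] [P.IsCrystallographic] [P.IsReduced]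

theorem exists_closedChamber (x : M) : ∃ b : P.Base, x ∈ closedChamber b := by
  obtain ⟨η, hη⟩ := exists_generic (P := P)
  obtain ⟨t, ht, hsgn⟩ := exists_perturb (P := P) x η
  have hne : ∀ i, bf P i (x + t • η) ≠ 0 := fun i h => by
    by_cases hi : bf P i x = 0
    · simp only [bf, map_add, map_smul] at h hi
      rw [hi, zero_add, smul_eq_mul] at h
      exact hη i (by simpa [ht.ne'] using h)
    · exact hi (sign_eq_zero_iff.1 (by rw [← hsgn i hi, h, sign_zero]))
  obtain ⟨b, hb⟩ := exists_base_openChamber (x + t • η) hne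
  refine ⟨b, (mem_closedChamber_iff b x).2 fun i hi => ?_⟩
  by_contra hn
  have hlt := lt_of_not_ge hn
  have := hsgn i hlt.ne
  rw [sign_pos (((mem_openChamber_iff b _).1 hb i).1 hi), sign_neg hlt] at this
  exact absurd this (by decide)

/-- A chosen point of a facet. -/
noncomputable def pt (F : Facet P) : M := F.exists_sgnVec_eq.choose

theorem sgnVec_pt (F : Facet P) : sgnVec P (pt F) = F.sgn := F.exists_sgnVec_eq.choose_spec

theorem pt_mem (F : Facet P) : pt F ∈ F.carrier := sgnVec_pt F

theorem sgn_eq (F : Facet P) (i : ι) : F.sgn i = SignType.sign (bf P i (pt F)) := by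
  rw [← sgnVec_pt F, sgnVec_eq]

theorem sgn_nr (F : Facet P) (i : ι) : F.sgn (P.reflectionPerm i i) = -F.sgn i := by
  rw [sgn_eq, sgn_eq, bf_nr, Left.sign_neg]

theorem ofVec_pt (F : Facet P) : Facet.ofVec P (pt F) = F := Facet.ext (sgnVec_pt F)

theorem closedChamber_congr {b : P.Base} {x y : M} (h : sgnVec P x = sgnVec P y) :
    x ∈ closedChamber b ↔ y ∈ closedChamber b := by
  refine forall₂_congr fun i _ => ?_
  have := congrFun h i
  rw [sgnVec, sgnVec] at this
  rw [← sign_nonneg_iff, this, sign_nonneg_iff]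

theorem mem_cham_iff {F : Facet P} {b : P.Base} : b ∈ F.cham ↔ pt F ∈ closedChamber b :=
  ⟨fun h => h (pt_mem F), fun h _ hx => (closedChamber_congr (hx.trans (sgnVec_pt F).symm)).2 h⟩

theorem cham_nonempty (F : Facet P) : F.cham.Nonempty :=
  (exists_closedChamber (pt F)).imp fun _ h => mem_cham_iff.2 h

theorem sgn_simple {F : Facet P} {b : P.Base} (hb : b ∈ F.cham) {j : ι} (hj : j ∈ b.support) :
    F.sgn j = 0 ∨ F.sgn j = 1 := by
  rw [← sgnVec_pt F, sgnVec]
  rcases (mem_cham_iff.1 hb j hj).eq_or_lt with h | h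
  · exact Or.inl (by rw [← h, sign_zero])
  · exact Or.inr (sign_pos h)

theorem sgn_ne_neg_one {F : Facet P} {b : P.Base} (hb : b ∈ F.cham) {i : ι} (hi : b.IsPos i) :
    F.sgn i ≠ -1 := by
  rw [sgn_eq, Ne, sign_eq_neg_one_iff, not_lt]
  exact (mem_closedChamber_iff b _).1 (mem_cham_iff.1 hb) i hi

theorem bf_eq_zero_iff_of_mem {b : P.Base} {x : M} (hx : x ∈ closedChamber b) {i : ι}
    (hi : b.IsPos i) :
    bf P i x = 0 ↔ ∀ l : b.support, cf b i l ≠ 0 → P.coroot' l x = 0 := by
  rw [bf_eq_sum b i, Finset.sum_eq_zero_iff_of_nonneg fun l _ =>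
    mul_nonneg (cf_nonneg b hi l) ((coroot'_nonneg_iff _ x).1 (hx l l.2))]
  simp only [Finset.mem_univ, true_implies, mul_eq_zero, coroot'_eq_zero_iff]
  exact forall_congr' fun l => ⟨fun h hne => h.resolve_left hne, fun h => or_iff_not_imp_left.2 h⟩

theorem sgn_eq_zero_iff {F : Facet P} {b : P.Base} (hb : b ∈ F.cham) {i : ι} (hi : b.IsPos i) :
    F.sgn i = 0 ↔ ∀ l : b.support, cf b i l ≠ 0 → F.sgn l = 0 := by
  rw [sgn_eq, sign_eq_zero_iff, bf_eq_zero_iff_of_mem (mem_cham_iff.1 hb) hi]
  simp only [sgn_eq, sign_eq_zero_iff, coroot'_eq_zero_iff]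

theorem ofVec_le_iff {x y : M} {b : P.Base} (hy : y ∈ closedChamber b) :
    Facet.ofVec P y ≤ Facet.ofVec P x ↔
      x ∈ closedChamber b ∧ ∀ j ∈ b.support, P.coroot' j y = 0 → P.coroot' j x = 0 := by
  have hsd : ∀ i, (Facet.ofVec P x).sgn i = SignType.sign (bf P i x) ∧
      (Facet.ofVec P y).sgn i = SignType.sign (bf P i y) :=
    fun i => ⟨sgnVec_eq x i, sgnVec_eq y i⟩
  constructor
  · intro h
    refine ⟨fun j hj => ?_, fun j hj hy0 => ?_⟩
    · rcases h j with h' | h'
      · exact (sign_eq_zero_iff.1 h').ge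
      · exact sign_nonneg_iff.1 (le_of_le_of_eq (sign_nonneg_iff.2 (hy j hj)) h'.symm)
    · rcases h j with h' | h'
      · exact sign_eq_zero_iff.1 h'
      · exact sign_eq_zero_iff.1 (h'.trans (sign_eq_zero_iff.2 hy0))
  · rintro ⟨hx, h⟩ i
    have key : ∀ k, b.IsPos k → SignType.sign (bf P k x) = 0 ∨
        SignType.sign (bf P k x) = SignType.sign (bf P k y) := fun k hk => by
      rcases ((mem_closedChamber_iff b x).1 hx k hk).eq_or_lt with hx0 | hx0
      · exact Or.inl (by rw [← hx0, sign_zero])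
      rcases ((mem_closedChamber_iff b y).1 hy k hk).eq_or_lt with hy0 | hy0
      · have := (bf_eq_zero_iff_of_mem hy hk).1 hy0.symm
        exact absurd ((bf_eq_zero_iff_of_mem hx hk).2 fun l hl => h l l.2 (this l hl)) hx0.ne'
      · exact Or.inr (by rw [sign_pos hx0, sign_pos hy0])
    rw [(hsd i).1, (hsd i).2]
    by_cases hi : b.IsPos i
    · exact key i hi
    · have := key _ ((isPos_nr b i).2 hi)
      simp only [bf_nr, Left.sign_neg, neg_inj] at this
      revert this
      generalize SignType.sign (bf P i x) = s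
      generalize SignType.sign (bf P i y) = t
      revert s t; decide

theorem le_iff {F G : Facet P} {b : P.Base} (hb : b ∈ F.cham) :
    F ≤ G ↔ b ∈ G.cham ∧ ∀ j ∈ b.support, F.sgn j = 0 → G.sgn j = 0 := by
  conv_lhs => rw [← ofVec_pt F, ← ofVec_pt G, ofVec_le_iff (mem_cham_iff.1 hb)]
  simp only [mem_cham_iff, sgn_eq, sign_eq_zero_iff, coroot'_eq_zero_iff]

theorem eq_of_sgn_support {F G : Facet P} {b : P.Base} (hb : b ∈ F.cham) (hb' : b ∈ G.cham)
    (h : ∀ j ∈ b.support, F.sgn j = 0 ↔ G.sgn j = 0) : F = G :=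
  le_antisymm ((le_iff hb).2 ⟨hb', fun j hj => (h j hj).1⟩)
    ((le_iff hb').2 ⟨hb, fun j hj => (h j hj).2⟩)

theorem mem_closure_iff {F : Facet P} {b : P.Base} (hb : b ∈ F.cham) {x : M} :
    x ∈ F.closure ↔ x ∈ closedChamber b ∧ ∀ j ∈ b.support, F.sgn j = 0 → P.coroot' j x = 0 := by
  have : x ∈ F.closure ↔ F ≤ Facet.ofVec P x := Iff.rfl
  rw [this]
  conv_lhs => rw [← ofVec_pt F, ofVec_le_iff (mem_cham_iff.1 hb)]
  simp only [sgn_eq, sign_eq_zero_iff, coroot'_eq_zero_iff]

theorem mem_carrier_iff {F : Facet P} {b : P.Base} (hb : b ∈ F.cham) {x : M} :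
    x ∈ F.carrier ↔ x ∈ closedChamber b ∧ ∀ j ∈ b.support, (P.coroot' j x = 0 ↔ F.sgn j = 0) := by
  constructor
  · intro hx
    refine ⟨(closedChamber_congr (hx.trans (sgnVec_pt F).symm)).2 (mem_cham_iff.1 hb), fun j _ => ?_⟩
    rw [← congrFun hx j]
    exact sign_eq_zero_iff.symm
  · rintro ⟨hx, h⟩
    have hb' : b ∈ (Facet.ofVec P x).cham := fun y hy => (closedChamber_congr hy).2 hx
    exact congrArg Facet.sgn (eq_of_sgn_support (F := Facet.ofVec P x) hb' hb
      fun j hj => sign_eq_zero_iff.trans (h j hj))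

theorem coroot'_fundWeight (b : P.Base) (l j : b.support) [Decidable (j = l)] :
    P.coroot' j (fundWeight b l) = if j = l then 1 else 0 := by
  split_ifs with h
  · subst h; exact coroot'_fundWeight_self b j
  · exact coroot'_fundWeight_of_ne b l j h

theorem fundWeight_mem_closedChamber (b : P.Base) (l : b.support) :
    fundWeight b l ∈ closedChamber b := fun i hi => by
  classical
  rw [coroot'_fundWeight b l ⟨i, hi⟩]; split_ifs <;> simp

theorem fundWeight_injective (b : P.Base) : Injective (fundWeight b) := fun i j h => by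
  by_contra hn
  have := coroot'_fundWeight_self b i
  rw [h, coroot'_fundWeight_of_ne b j i hn] at this
  exact zero_ne_one this

theorem linearIndependent_fundWeight (b : P.Base) : LinearIndependent R (fundWeight b) := by
  rw [Fintype.linearIndependent_iff]
  intro c hc j
  have := coroot'_sum_smul_fundWeight b c j
  rw [hc, map_zero] at this
  exact this.symm

theorem fundWeight_ne_zero (b : P.Base) (l : b.support) : fundWeight b l ≠ 0 :=
  (linearIndependent_fundWeight b).ne_zero l

theorem fundCoweight_ne_zero (b : P.Base) (l : b.support) : fundCoweight b l ≠ 0 :=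
  fundWeight_ne_zero (P := P.flip) b.flip l

theorem eq_of_root'_eq (b : P.Base) {x y : N}
    (h : ∀ j : b.support, P.root' j x = P.root' j y) : x = y :=
  eq_of_coroot'_eq (P := P.flip) b.flip h

theorem isInt_coroot'_fundWeight (b : P.Base) (l : b.support) (i : ι) :
    ∃ z : ℤ, P.coroot' i (fundWeight b l) = z :=
  isInt_cf (P := P.flip) b.flip i l

/-- A fundamental weight lying in a closed chamber is a fundamental weight of that chamber. -/
theorem exists_eq_fundWeight {b : P.Base} {m : M} (hm : m ∈ fundWeights P)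
    (hc : m ∈ closedChamber b) : ∃ l : b.support, fundWeight b l = m := by
  classical
  obtain ⟨b', i', rfl⟩ := hm
  set w := fundWeight b' i' with hw
  have hne : ∃ j : b.support, P.coroot' j w ≠ 0 := by
    by_contra hn
    push Not at hn
    exact fundWeight_ne_zero b' i' (eq_of_coroot'_eq b fun j => by rw [hn j, map_zero])
  obtain ⟨j, hj⟩ := hne
  have huniq : ∀ l : b.support, l ≠ j → P.coroot' l w = 0 := by
    by_contra hn
    push Not at hn
    obtain ⟨k, hkj, hk⟩ := hn
    have hkill : ∀ (a : b.support), P.coroot' a w ≠ 0 → ∀ l : b'.support, l ≠ i' →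
        P.root' l (fundCoweight b a) = 0 := by
      intro a ha l hl
      have hl0 : bf P l w = 0 := (coroot'_eq_zero_iff _ _).1 (coroot'_fundWeight_of_ne b' i' l hl)
      by_cases hp : b.IsPos l
      · by_contra hne'
        exact ha ((bf_eq_zero_iff_of_mem hc hp).1 hl0 a hne')
      · have hp' := (isPos_nr b l).2 hp
        by_contra hne'
        refine ha ((bf_eq_zero_iff_of_mem hc hp').1 (by rw [bf_nr, hl0, neg_zero]) a ?_)
        rw [cf_nr]; exact neg_ne_zero.2 hne'
    have hmult : ∀ a : b.support, P.coroot' a w ≠ 0 →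
        fundCoweight b a = P.root' i' (fundCoweight b a) • fundCoweight b' i' := fun a ha =>
      eq_of_root'_eq b' fun l => by
        rw [map_smul, smul_eq_mul]
        by_cases hl : l = i'
        · subst hl; rw [root'_fundCoweight_self, mul_one]
        · rw [root'_fundCoweight_of_ne b' i' l hl, mul_zero, hkill a ha l hl]
    have h1 := root'_fundCoweight_self b j
    have h2 := root'_fundCoweight_of_ne b k j (Ne.symm hkj)
    have h3 := root'_fundCoweight_self b k
    rw [hmult j hj, map_smul, smul_eq_mul] at h1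
    rw [hmult k hk, map_smul, smul_eq_mul] at h2 h3
    rcases mul_eq_zero.1 h2 with h | h
    · rw [h, zero_mul] at h3; exact zero_ne_one h3
    · rw [h, mul_zero] at h1; exact zero_ne_one h1
  have heq : w = P.coroot' j w • fundWeight b j := eq_of_coroot'_eq b fun l => by
    rw [map_smul, coroot'_fundWeight b j l]
    by_cases hl : l = j
    · subst hl; simp
    · rw [huniq l hl, if_neg hl, smul_zero]
  obtain ⟨z, hz⟩ := isInt_coroot'_fundWeight b' i' j
  obtain ⟨z', hz'⟩ := isInt_coroot'_fundWeight b j i'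
  have h1 : P.coroot' i' w = 1 := coroot'_fundWeight_self b' i'
  have hwj : P.coroot' j w = (z : R) := hz
  rw [heq, hwj, map_smul, hz', smul_eq_mul] at h1
  have hz1 : z = 1 := by
    have h0 : 0 ≤ (z : R) := hwj ▸ hc j j.2
    have h0' : 0 ≤ z := by exact_mod_cast h0
    rcases Int.eq_one_or_neg_one_of_mul_eq_one (show z * z' = 1 by exact_mod_cast h1) with h | h <;>
      omega
  exact ⟨j, by rw [heq, hwj, hz1, Int.cast_one, one_smul]⟩

theorem baseCorners_eq (b : P.Base) : baseCorners b = range (fundWeight b) :=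
  Set.ext fun m => ⟨fun h => exists_eq_fundWeight h.1 h.2, by
    rintro ⟨l, rfl⟩; exact ⟨⟨b, l, rfl⟩, fundWeight_mem_closedChamber b l⟩⟩

theorem fundWeight_mem_closure_iff {F : Facet P} {b : P.Base} (hb : b ∈ F.cham) (l : b.support) :
    fundWeight b l ∈ F.closure ↔ F.sgn l ≠ 0 := by
  classical
  rw [mem_closure_iff hb, and_iff_right (fundWeight_mem_closedChamber b l)]
  refine ⟨fun h h0 => ?_, fun h j hj h0 => ?_⟩
  · have := h l l.2 h0
    rw [coroot'_fundWeight_self] at this
    exact one_ne_zero this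
  · exact coroot'_fundWeight_of_ne b l ⟨j, hj⟩ fun e => h (by rw [← e]; exact h0)

theorem corners_eq {F : Facet P} {b : P.Base} (hb : b ∈ F.cham) :
    F.corners = fundWeight b '' {l | F.sgn l ≠ 0} := by
  ext m
  refine ⟨fun h => ?_, ?_⟩
  · obtain ⟨l, rfl⟩ := exists_eq_fundWeight h.1 ((mem_closure_iff hb).1 h.2).1
    exact ⟨l, (fundWeight_mem_closure_iff hb l).1 h.2, rfl⟩
  · rintro ⟨l, hl, rfl⟩
    exact ⟨⟨b, l, rfl⟩, (fundWeight_mem_closure_iff hb l).2 hl⟩

theorem linearIndepOn_corners (F : Facet P) : LinearIndepOn R (fun m : M => m) F.corners := by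
  obtain ⟨b, hb⟩ := cham_nonempty F
  rw [corners_eq hb]
  exact (linearIndependent_fundWeight b).linearIndepOn_id.mono (image_subset_range _ _)

theorem mem_span_corners_iff {F : Facet P} {b : P.Base} (hb : b ∈ F.cham) {x : M} :
    x ∈ Submodule.span R F.corners ↔ ∀ j ∈ b.support, F.sgn j = 0 → P.coroot' j x = 0 := by
  rw [corners_eq hb]
  constructor
  · intro hx j hj h0
    refine Submodule.span_induction ?_ (map_zero _) (fun a c _ _ ha hc => by rw [map_add, ha, hc, add_zero])
      (fun r a _ ha => by rw [map_smul, ha, smul_zero]) hx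
    rintro _ ⟨l, hl, rfl⟩
    exact coroot'_fundWeight_of_ne b l ⟨j, hj⟩ fun e => hl (by rw [← e]; exact h0)
  · intro h
    rw [eq_sum_fundWeight b x]
    refine Submodule.sum_mem _ fun l _ => ?_
    by_cases hl : F.sgn l = 0
    · rw [h l l.2 hl, zero_smul]; exact Submodule.zero_mem _
    · exact Submodule.smul_mem _ _ (Submodule.subset_span ⟨l, hl, rfl⟩)

theorem carrier_subset_span (F : Facet P) : F.carrier ⊆ Submodule.span R F.corners := fun x hx => by
  obtain ⟨b, hb⟩ := cham_nonempty F
  exact (mem_span_corners_iff hb).2 fun j hj => (((mem_carrier_iff hb).1 hx).2 j hj).2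

theorem span_carrier (F : Facet P) : Submodule.span R F.carrier = Submodule.span R F.corners := by
  classical
  refine le_antisymm (Submodule.span_le.2 (carrier_subset_span F)) (Submodule.span_le.2 ?_)
  obtain ⟨b, hb⟩ := cham_nonempty F
  rw [corners_eq hb]
  rintro _ ⟨l, hl, rfl⟩
  have hmem : pt F + fundWeight b l ∈ F.carrier := by
    rw [mem_carrier_iff hb]
    have h0 := mem_cham_iff.1 hb
    refine ⟨fun j hj => ?_, fun j hj => ?_⟩
    · rw [map_add]; exact add_nonneg (h0 j hj) (fundWeight_mem_closedChamber b l j hj)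
    · rw [map_add, sgn_eq, sign_eq_zero_iff, ← coroot'_eq_zero_iff, coroot'_fundWeight b l ⟨j, hj⟩]
      split_ifs with h
      · have : P.coroot' j (pt F) ≠ 0 := by
          subst h
          exact fun e => hl (by
            show F.sgn _ = 0
            rw [sgn_eq, sign_eq_zero_iff, ← coroot'_eq_zero_iff]; exact e)
        have : 0 < P.coroot' j (pt F) := lt_of_le_of_ne (h0 j hj) this.symm
        constructor <;> intro <;> linarith
      · rw [add_zero]
  simpa using Submodule.sub_mem _ (Submodule.subset_span (R := R) hmem)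
    (Submodule.subset_span (pt_mem F))

theorem mem_carrier_iff_sum {F : Facet P} {b : P.Base} (hb : b ∈ F.cham) {x : M} :
    x ∈ F.carrier ↔ ∀ l : b.support,
      (F.sgn l = 0 → P.coroot' l x = 0) ∧ (F.sgn l ≠ 0 → 0 < P.coroot' l x) := by
  rw [mem_carrier_iff hb]
  constructor
  · rintro ⟨hx, h⟩ l
    exact ⟨(h l l.2).2, fun hl => lt_of_le_of_ne (hx l l.2) fun e => hl ((h l l.2).1 e.symm)⟩
  · intro h
    refine ⟨fun j hj => ?_, fun j hj => ?_⟩
    · by_cases hl : F.sgn j = 0
      · rw [(h ⟨j, hj⟩).1 hl]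
      · exact ((h ⟨j, hj⟩).2 hl).le
    · exact ⟨fun h0 => by_contra fun hl => ((h ⟨j, hj⟩).2 hl).ne' h0, (h ⟨j, hj⟩).1⟩

theorem coroot'_finsupp_sum (b : P.Base) (j : b.support) (c : M →₀ R) {J : Set b.support}
    (hc : (c.support : Set M) ⊆ fundWeight b '' J) :
    P.coroot' j (c.sum fun m r => r • m) = c (fundWeight b j) := by
  classical
  rw [Finsupp.sum, map_sum, Finset.sum_eq_single (fundWeight b j)]
  · rw [map_smul, coroot'_fundWeight_self, smul_eq_mul, mul_one]
  · intro m hm hne
    obtain ⟨l, -, rfl⟩ := hc hm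
    rw [map_smul, coroot'_fundWeight_of_ne b l j (fun e => hne (by rw [e])), smul_zero]
  · intro h
    rw [Finsupp.notMem_support_iff.1 h, zero_smul, map_zero]

theorem carrier_eq (F : Facet P) :
    F.carrier = {ξ : M | ∃ c : M →₀ R, (c.support : Set M) ⊆ F.corners ∧
      (∀ m ∈ F.corners, 0 < c m) ∧ c.sum (fun m r => r • m) = ξ} := by
  classical
  obtain ⟨b, hb⟩ := cham_nonempty F
  ext x
  rw [mem_carrier_iff_sum hb, mem_setOf_eq, corners_eq hb]
  constructor
  · intro h
    set c : M →₀ R := Finsupp.mapDomain (fundWeight b)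
      (Finsupp.equivFunOnFinite.symm fun l : b.support => P.coroot' l x) with hc
    refine ⟨c, fun m hm => ?_, ?_, ?_⟩
    · obtain ⟨l, hl, rfl⟩ := Finset.mem_image.1 (Finsupp.mapDomain_support hm)
      exact ⟨l, fun h0 => (Finsupp.mem_support_iff.1 hl) ((h l).1 h0), rfl⟩
    · rintro _ ⟨l, hl, rfl⟩
      rw [hc, Finsupp.mapDomain_apply (fundWeight_injective b)]
      exact (h l).2 hl
    · rw [hc, Finsupp.sum_mapDomain_index_inj (fundWeight_injective b),
        Finsupp.sum_fintype]
      · exact (eq_sum_fundWeight b x).symm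
      · intro; exact zero_smul R _
  · rintro ⟨c, hs, hpos, rfl⟩ l
    rw [coroot'_finsupp_sum b l c hs]
    refine ⟨fun h0 => ?_, fun hl => hpos _ ⟨l, hl, rfl⟩⟩
    by_contra hne
    obtain ⟨l', hl', he⟩ := hs (Finsupp.mem_support_iff.2 hne)
    rw [fundWeight_injective b he] at hl'
    exact hl' h0

theorem eq_of_corners_eq {F G : Facet P} (h : F.corners = G.corners) : F = G := by
  have hc : F.carrier = G.carrier := by rw [carrier_eq F, carrier_eq G, h]
  exact Facet.ext ((sgnVec_pt F).symm.trans (show pt F ∈ G.carrier from hc ▸ pt_mem F))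

theorem exists_facet (b : P.Base) (J : Set b.support) :
    ∃ F : Facet P, b ∈ F.cham ∧ ∀ l : b.support, F.sgn l ≠ 0 ↔ l ∈ J := by
  classical
  set x := ∑ l : b.support, (if l ∈ J then (1 : R) else 0) • fundWeight b l with hx
  have hco : ∀ l : b.support, P.coroot' l x = if l ∈ J then 1 else 0 := fun l =>
    coroot'_sum_smul_fundWeight b _ l
  refine ⟨Facet.ofVec P x, fun y hy => (closedChamber_congr hy).2 fun i hi => ?_, fun l => ?_⟩
  · rw [hco ⟨i, hi⟩]; split_ifs <;> simp
  · show SignType.sign (P.coroot' l x) ≠ 0 ↔ _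
    rw [Ne, sign_eq_zero_iff, hco l]
    split_ifs with h <;> simp [h]

theorem exists_facet_corners (b : P.Base) (J : Set b.support) :
    ∃ F : Facet P, b ∈ F.cham ∧ F.corners = fundWeight b '' J := by
  obtain ⟨F, hb, h⟩ := exists_facet b J
  exact ⟨F, hb, by rw [corners_eq hb]; exact congrArg _ (Set.ext h)⟩

theorem exists_corners_insert (F : Facet P) {m : M} (hm : m ∈ F.corners') :
    ∃ G : Facet P, G.corners = insert m F.corners := by
  obtain ⟨b, hb, hm⟩ := mem_iUnion₂.1 hm
  rw [baseCorners_eq] at hm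
  obtain ⟨l, rfl⟩ := hm
  obtain ⟨G, -, hG⟩ := exists_facet_corners b (insert l {l | F.sgn l ≠ 0})
  exact ⟨G, by rw [hG, image_insert_eq, corners_eq hb]⟩

theorem exists_corners_diff (F : Facet P) (m : M) :
    ∃ G : Facet P, G.corners = F.corners \ {m} := by
  obtain ⟨b, hb⟩ := cham_nonempty F
  obtain ⟨G, -, hG⟩ := exists_facet_corners b ({l | F.sgn l ≠ 0} \ fundWeight b ⁻¹' {m})
  exact ⟨G, by rw [hG, corners_eq hb, image_diff_preimage]⟩

/-! ### The polarization, corresponding weights and coweights, the dual facet -/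

theorem pol_fundWeight (b : P.Base) (l : b.support) :
    P.Polarization (fundWeight b l) =
      (P.RootForm (P.root l) (P.root l) / 2) • fundCoweight b l :=
  eq_of_root'_eq b fun j => by
    classical
    rw [root'_polarization, map_smul, smul_eq_mul]
    have h := two_bf (P := P) j (fundWeight b l)
    by_cases hj : j = l
    · subst hj
      rw [coroot'_fundWeight_self] at h
      rw [root'_fundCoweight_self]; linarith
    · rw [coroot'_fundWeight_of_ne b l j hj] at h
      rw [root'_fundCoweight_of_ne b l j hj]; linarith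

theorem root'_fundCoweight_mul (b : P.Base) (l : b.support) (i : ι) :
    cf b i l * (P.RootForm (P.root l) (P.root l) / 2) = bf P i (fundWeight b l) := by
  rw [← root'_polarization, pol_fundWeight, map_smul, smul_eq_mul, mul_comm]

theorem fundCoweight_eq_of_fundWeight_eq {b b' : P.Base} {l : b.support} {l' : b'.support}
    (h : fundWeight b l = fundWeight b' l') : fundCoweight b l = fundCoweight b' l' := by
  set r := P.RootForm (P.root l) (P.root l) / 2 with hr
  set r' := P.RootForm (P.root l') (P.root l') / 2 with hr'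
  have hr0 : 0 < r := half_pos (bf_self_pos _)
  have hr0' : 0 < r' := half_pos (bf_self_pos _)
  have heq : r • fundCoweight b l = r' • fundCoweight b' l' := by
    rw [← pol_fundWeight, ← pol_fundWeight, h]
  obtain ⟨z, hz⟩ := isInt_cf b l' l
  obtain ⟨z', hz'⟩ := isInt_cf b' l l'
  have h1 := congrArg (P.root' l') heq
  have h2 := congrArg (P.root' l) heq
  rw [map_smul, map_smul, root'_fundCoweight_self, smul_eq_mul, smul_eq_mul,
    show P.root' l' (fundCoweight b l) = (z : R) from hz, mul_one] at h1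
  rw [map_smul, map_smul, root'_fundCoweight_self, smul_eq_mul, smul_eq_mul,
    show P.root' l (fundCoweight b' l') = (z' : R) from hz', mul_one] at h2
  have hz0 : 0 < z := by
    have : (0 : R) < z := by
      by_contra hn
      nlinarith [not_lt.1 hn]
    exact_mod_cast this
  have hzz : z * z' = 1 := by
    have : (z : R) * z' = 1 := by
      apply mul_left_cancel₀ hr0.ne'
      linear_combination (z' : R) * h1 - h2
    exact_mod_cast this
  have hz1 : z = 1 := by
    rcases Int.eq_one_or_neg_one_of_mul_eq_one hzz with h | h <;> omega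
  rw [hz1, Int.cast_one, mul_one] at h1
  rw [h1] at heq
  exact (smul_right_injective N hr0'.ne') heq

theorem corr_iff (b : P.Base) (l : b.support) (y : N) :
    Corr P (fundWeight b l) y ↔ y = fundCoweight b l := by
  refine ⟨?_, fun h => ⟨b, l, rfl, h.symm⟩⟩
  rintro ⟨b', l', hw, rfl⟩
  exact fundCoweight_eq_of_fundWeight_eq hw

theorem cosgnVec_polarization (x : M) : cosgnVec P (P.Polarization x) = sgnVec P x :=
  funext fun i => by rw [cosgnVec, root'_polarization, sgnVec_eq]

/-- The dual facet, as a facet of the dual root system. -/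
noncomputable def dual (F : Facet P) : Facet P.flip :=
  ⟨F.sgn, P.Polarization (pt F), (cosgnVec_polarization (pt F)).trans (sgnVec_pt F)⟩

theorem flip_mem_cham_dual {F : Facet P} {b : P.Base} (hb : b ∈ F.cham) :
    b.flip ∈ (dual F).cham := fun y hy i hi => by
  have h : cosgnVec P y i = F.sgn i := congrFun hy i
  show 0 ≤ P.root' i y
  rw [← sign_nonneg_iff]
  show 0 ≤ cosgnVec P y i
  rw [h]
  rcases sgn_simple hb (j := i) hi with e | e <;> simp [e]

theorem dualCorners_eq {F : Facet P} {b : P.Base} (hb : b ∈ F.cham) :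
    F.dualCorners = fundCoweight b '' {l | F.sgn l ≠ 0} :=
  corners_eq (flip_mem_cham_dual hb)

theorem dualCorners_eq_corr (F : Facet P) :
    F.dualCorners = {y : N | ∃ m ∈ F.corners, Corr P m y} := by
  obtain ⟨b, hb⟩ := cham_nonempty F
  rw [dualCorners_eq hb, corners_eq hb]
  ext y
  simp only [mem_image, mem_setOf_eq]
  constructor
  · rintro ⟨l, hl, rfl⟩; exact ⟨_, ⟨l, hl, rfl⟩, ⟨b, l, rfl, rfl⟩⟩
  · rintro ⟨_, ⟨l, hl, rfl⟩, hc⟩; exact ⟨l, hl, ((corr_iff b l y).1 hc).symm⟩

theorem mem_span_dualCarrier {F : Facet P} {b : P.Base} (hb : b ∈ F.cham) {y : N} :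
    y ∈ Submodule.span R F.dualCarrier ↔ ∀ j ∈ b.support, F.sgn j = 0 → P.root' j y = 0 := by
  show y ∈ Submodule.span R (dual F).carrier ↔ _
  rw [span_carrier]
  exact mem_span_corners_iff (flip_mem_cham_dual hb)

theorem mem_dualCarrier_iff {F : Facet P} {b : P.Base} (hb : b ∈ F.cham) {y : N} :
    y ∈ F.dualCarrier ↔ ∀ l : b.support,
      (F.sgn l = 0 → P.root' l y = 0) ∧ (F.sgn l ≠ 0 → 0 < P.root' l y) :=
  mem_carrier_iff_sum (flip_mem_cham_dual hb)

end GrothLib.RootCh
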