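import Groth.Agent.Lib.RootCh.Facet

/-! Parabolic subsets of roots and facets. -/

set_option linter.unusedSectionVars false

namespace GrothLib.RootCh

open Function Set Module RootPairing _root_.RootCh

universe u v w x

variable {ι : Type u} {R : Type v} {M : Type w} {N : Type x}
  [Field R] [LinearOrder R] [IsStrictOrderedRing R]
  [AddCommGroup M] [Module R M] [AddCommGroup N] [Module R N] [Fintype ι]
  {P : RootPairing ι R M N} [P.IsRootSystem] [P.IsCrystallographic] [P.IsReduced]

theorem refl_self_inv (i : ι) : P.reflectionPerm (P.reflectionPerm i i) (P.reflectionPerm i i) = i :=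
  P.root.injective (by rw [root_nr, root_nr, neg_neg])

theorem nr_nr (i : ι) : P.reflectionPerm i (P.reflectionPerm i i) = i := P.reflectionPerm_self i i

theorem bf_reflectionPerm (a i : ι) (x : M) :
    bf P (P.reflectionPerm a i) x = bf P i (P.reflection a x) := by
  simp only [bf, root_reflectionPerm]
  conv_lhs => rw [← P.reflection_same a x]
  exact P.rootForm_reflection_reflection_apply _ _ _

theorem isPos_refl_iff {b : P.Base} {a : ι} (ha : a ∈ b.support) {i : ι} (hne : i ≠ a)
    (hne' : i ≠ P.reflectionPerm a a) : b.IsPos (P.reflectionPerm a i) ↔ b.IsPos i := by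
  refine ⟨fun h => ?_, fun h => h.reflectionPerm ha hne⟩
  have := Base.IsPos.reflectionPerm h ha (fun e => hne' (by
    rw [← P.reflectionPerm_self a i, e]))
  rwa [P.reflectionPerm_self] at this

theorem isPos_refl_self {b : P.Base} {a : ι} (ha : a ∈ b.support) :
    ¬ b.IsPos (P.reflectionPerm a a) := fun h =>
  (isPos_nr b a).1 h (Base.isPos_of_mem_support ha)

/-- The base of the chamber adjacent to that of `b` across the wall of the simple root `a`. -/
theorem exists_adjacent (b : P.Base) {a : ι} (ha : a ∈ b.support) :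
    ∃ b' : P.Base, ∀ i, b'.IsPos i ↔
      (b.IsPos i ∧ i ≠ a) ∨ i = P.reflectionPerm a a := by
  obtain ⟨b', hb'⟩ := exists_base_openChamber (P.reflection a (rho b)) fun i => by
    rw [← bf_reflectionPerm]; exact bf_rho_ne_zero b _
  refine ⟨b', fun i => ?_⟩
  rw [(mem_openChamber_iff b' _).1 hb' i, ← bf_reflectionPerm,
    ← (mem_openChamber_iff b _).1 (rho_mem_openChamber b)]
  by_cases h1 : i = a
  · subst h1
    simp only [isPos_refl_self ha, ne_eq, not_true_eq_false, and_false, false_or, false_iff]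
    exact fun e => isPos_refl_self ha (e ▸ Base.isPos_of_mem_support ha)
  by_cases h2 : i = P.reflectionPerm a a
  · subst h2
    rw [P.reflectionPerm_self]
    simp [Base.isPos_of_mem_support ha]
  rw [isPos_refl_iff ha h1 h2]
  simp [h1, h2]

/-- A parabolic set contains the positive roots of some base. -/
theorem exists_base_pos_subset {S : Set ι} (hS : IsParabolicSubset P S) :
    ∃ b : P.Base, ∀ i, b.IsPos i → i ∈ S := by
  classical
  let f : P.Base → ℕ := fun b => (Finset.univ.filter fun i => b.IsPos i ∧ i ∈ S).card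
  have hne : (range f).Nonempty := let ⟨b⟩ := P.nonempty_base; ⟨f b, b, rfl⟩
  obtain ⟨_, ⟨b, rfl⟩, hmax⟩ : ∃ n ∈ range f, ∀ m ∈ range f, m ≤ n := by
    have hfin : (range f).Finite := (Set.finite_Iic (Fintype.card ι)).subset (by
      rintro _ ⟨b, rfl⟩; exact Finset.card_le_univ _)
    exact ⟨hfin.toFinset.max' (by simpa using hne), hfin.mem_toFinset.1 (Finset.max'_mem _ _),
      fun m hm => Finset.le_max' _ _ (hfin.mem_toFinset.2 hm)⟩
  refine ⟨b, ?_⟩
  by_contra hn
  push Not at hn
  obtain ⟨i, hi, hiS⟩ := hn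
  have hex : ∃ a ∈ b.support, a ∉ S := by
    by_contra hall
    push Not at hall
    exact hiS (hi.induction_on_add (p := (· ∈ S)) hall
      fun i j k hk hp hj => hS.1 i j k hp (hall j hj) hk)
  obtain ⟨a, ha, haS⟩ := hex
  have hna : P.reflectionPerm a a ∈ S := (hS.2 a).resolve_left haS
  obtain ⟨b', hb'⟩ := exists_adjacent b ha
  have : f b < f b' := by
    refine Finset.card_lt_card ((Finset.ssubset_iff_of_subset ?_).2 ⟨P.reflectionPerm a a, ?_, ?_⟩)
    · intro k hk
      simp only [Finset.mem_filter, Finset.mem_univ, true_and] at hk ⊢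
      exact ⟨(hb' k).2 (Or.inl ⟨hk.1, fun e => haS (e ▸ hk.2)⟩), hk.2⟩
    · simp [hb', hna]
    · simp [isPos_refl_self ha]
  exact absurd (hmax _ ⟨b', rfl⟩) (not_le.2 this)

theorem pos_subset_parab {F : Facet P} {b : P.Base} (hb : b ∈ F.cham) {i : ι} (hi : b.IsPos i) :
    i ∈ F.parab := sgn_ne_neg_one hb hi

theorem nr_mem_parab_iff {F : Facet P} {b : P.Base} (hb : b ∈ F.cham) {i : ι} (hi : b.IsPos i) :
    P.reflectionPerm i i ∈ F.parab ↔ F.sgn i = 0 := by
  show F.sgn _ ≠ -1 ↔ _
  rw [sgn_nr]
  have := sgn_ne_neg_one hb hi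
  revert this
  generalize F.sgn i = s
  revert s; decide

theorem isParabolic_parab (F : Facet P) : IsParabolicSubset P F.parab := by
  have h : ∀ i, i ∈ F.parab ↔ 0 ≤ bf P i (pt F) := fun i => by
    show F.sgn i ≠ -1 ↔ _
    rw [sgn_eq, Ne, sign_eq_neg_one_iff, not_lt]
  refine ⟨fun i j k hi hj hk => ?_, fun i => ?_⟩
  · rw [h] at *
    rw [bf_add hk]; exact add_nonneg hi hj
  · rw [h, h, bf_nr]
    rcases le_total 0 (bf P i (pt F)) with h' | h'
    · exact Or.inl h'
    · exact Or.inr (by linarith)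

theorem le_iff_parab {F G : Facet P} : F ≤ G ↔ F.parab ⊆ G.parab := by
  constructor
  · intro h i hi
    show G.sgn i ≠ -1
    rcases h i with h' | h' <;> rw [h']
    · decide
    · exact hi
  · intro h i
    have h1 : F.sgn i ≠ -1 → G.sgn i ≠ -1 := @h i
    have h2 := @h (P.reflectionPerm i i)
    change F.sgn _ ≠ -1 → G.sgn _ ≠ -1 at h2
    rw [sgn_nr, sgn_nr] at h2
    revert h1 h2
    generalize F.sgn i = s
    generalize G.sgn i = t
    revert s t; decide

theorem eq_of_parab_eq {F G : Facet P} (h : F.parab = G.parab) : F = G :=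
  le_antisymm (le_iff_parab.2 h.le) (le_iff_parab.2 h.ge)

theorem exists_facet_parab {S : Set ι} (hS : IsParabolicSubset P S) :
    ∃ F : Facet P, F.parab = S := by
  classical
  obtain ⟨b, hbS⟩ := exists_base_pos_subset hS
  obtain ⟨F, hb, hF⟩ := exists_facet b {l | P.reflectionPerm (l : ι) l ∉ S}
  refine ⟨F, Set.ext fun i => ?_⟩
  have hsupp : ∀ l : b.support, F.sgn l = 0 ↔ P.reflectionPerm (l : ι) l ∈ S := fun l => by
    simpa using (hF l).not
  have hnonneg : ∀ {k}, b.IsPos k → ∀ l, 0 ≤ cf b k l := fun hk l => cf_nonneg b hk l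
  have hle : ∀ {i j k : ι}, P.root k = P.root i + P.root j → b.IsPos i → j ∈ b.support →
      ∀ l, cf b i l ≠ 0 → cf b k l ≠ 0 := by
    intro i j k hk hi hj l hl
    have h1 := hnonneg hi l
    have h2 := cf_nonneg b (Base.isPos_of_mem_support hj) l
    have h3 : (0 : R) < cf b i l := lt_of_le_of_ne h1 hl.symm
    rw [cf_add b hk]; linarith
  have hne : ∀ {i j k : ι}, P.root k = P.root i + P.root j → b.IsPos i → (hj : j ∈ b.support) →
      cf b k ⟨j, hj⟩ ≠ 0 := by
    intro i j k hk hi hj
    have h1 := hnonneg hi ⟨j, hj⟩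
    rw [cf_add b hk, cf_simple b ⟨j, hj⟩ ⟨j, hj⟩, if_pos rfl]
    linarith
  have key : ∀ k, b.IsPos k → (P.reflectionPerm k k ∈ S ↔ F.sgn k = 0) := by
    intro k hk
    rw [sgn_eq_zero_iff hb hk]
    constructor
    · refine fun h => (hk.induction_on_add (p := fun k => b.IsPos k ∧ (P.reflectionPerm k k ∈ S →
        ∀ l : b.support, cf b k l ≠ 0 → F.sgn l = 0)) ?_ ?_).2 h
      · refine fun k hk => ⟨Base.isPos_of_mem_support hk, fun h l hl => ?_⟩
        rw [cf_simple b ⟨k, hk⟩ l] at hl
        obtain rfl : ⟨k, hk⟩ = l := by by_contra hn; rw [if_neg hn] at hl; exact hl rfl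
        exact (hsupp _).2 h
      · rintro i j k hk ⟨hi, ih⟩ hj
        refine ⟨hi.add (Base.isPos_of_mem_support hj) hk, fun h l hl => ?_⟩
        have hnj : P.reflectionPerm j j ∈ S := hS.1 _ i _ h (hbS i hi) (by
          rw [root_nr, root_nr, hk]; abel)
        have hni : P.reflectionPerm i i ∈ S := hS.1 _ j _ h (hbS j (Base.isPos_of_mem_support hj)) (by
          rw [root_nr, root_nr, hk]; abel)
        rw [cf_add b hk, cf_simple b ⟨j, hj⟩ l] at hl
        by_cases hjl : ⟨j, hj⟩ = l
        · subst hjl; exact (hsupp _).2 hnj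
        · rw [if_neg hjl, add_zero] at hl; exact ih hni l hl
    · refine (hk.induction_on_add (p := fun k => b.IsPos k ∧
        ((∀ l : b.support, cf b k l ≠ 0 → F.sgn l = 0) → P.reflectionPerm k k ∈ S)) ?_ ?_).2
      · refine fun k hk => ⟨Base.isPos_of_mem_support hk, fun h => (hsupp ⟨k, hk⟩).1 (h _ ?_)⟩
        rw [cf_simple b ⟨k, hk⟩ ⟨k, hk⟩, if_pos rfl]; exact one_ne_zero
      · rintro i j k hk ⟨hi, ih⟩ hj
        refine ⟨hi.add (Base.isPos_of_mem_support hj) hk, fun h => ?_⟩
        exact hS.1 _ _ _ (ih fun l hl => h l (hle hk hi hj l hl))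
          ((hsupp ⟨j, hj⟩).1 (h _ (hne hk hi hj))) (by rw [root_nr, root_nr, root_nr, hk]; abel)
  by_cases hi : b.IsPos i
  · exact iff_of_true (pos_subset_parab hb hi) (hbS i hi)
  · have hp := (isPos_nr b i).2 hi
    have h1 := key _ hp
    have h2 := nr_mem_parab_iff hb hp
    rw [refl_self_inv] at h1 h2
    rw [h1, h2]

/-- The vertex set attached to a set of roots. -/
def vert (P : RootPairing ι R M N) [P.IsRootSystem] (S : Set ι) : Set M :=
  {m : M | m ∈ fundWeights P ∧ ∀ y : N, Corr P m y → ∀ i ∈ S, 0 ≤ P.root' i y}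

theorem corners_eq_vert (F : Facet P) : F.corners = vert P F.parab := by
  obtain ⟨b, hb⟩ := cham_nonempty F
  ext m
  constructor
  · intro hm
    rw [corners_eq hb] at hm
    obtain ⟨l, hl, rfl⟩ := hm
    refine ⟨⟨b, l, rfl⟩, fun y hy i hi => ?_⟩
    rw [(corr_iff b l y).1 hy]
    by_cases hp : b.IsPos i
    · exact cf_nonneg b hp l
    · have hp' := (isPos_nr b i).2 hp
      have hz : F.sgn (P.reflectionPerm i i) = 0 := by
        rw [← nr_mem_parab_iff hb hp', refl_self_inv]; exact hi
      have := (sgn_eq_zero_iff hb hp').1 hz l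
      have hcf : cf b (P.reflectionPerm i i) l = 0 := by
        by_contra hne; exact hl (this hne)
      rw [cf_nr, neg_eq_zero] at hcf
      exact hcf.ge
  · rintro ⟨⟨b', l', rfl⟩, hall⟩
    have hy := hall _ ((corr_iff b' l' _).2 rfl)
    have hc : fundWeight b' l' ∈ closedChamber b := (mem_closedChamber_iff b _).2 fun i hi => by
      rw [← root'_fundCoweight_mul]
      exact mul_nonneg (hy i (pos_subset_parab hb hi)) (half_pos (bf_self_pos _)).le
    obtain ⟨l, hl⟩ := exists_eq_fundWeight ⟨b', l', rfl⟩ hc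
    rw [corners_eq hb]
    refine ⟨l, fun h0 => ?_, hl⟩
    have := hy _ ((nr_mem_parab_iff hb (Base.isPos_of_mem_support l.2)).2 h0)
    rw [← fundCoweight_eq_of_fundWeight_eq hl] at this
    change 0 ≤ cf b _ l at this
    rw [cf_nr, show cf b l l = 1 from root'_fundCoweight_self b l] at this
    linarith

theorem exists_facet_vert {S : Set ι} (hS : IsParabolicSubset P S) :
    ∃ F : Facet P, (F.corners = vert P S ∧ F.parab = S) ∧
      ∀ G : Facet P, G.corners = vert P S → G = F := by
  obtain ⟨F, rfl⟩ := exists_facet_parab hS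
  exact ⟨F, ⟨corners_eq_vert F, rfl⟩,
    fun G hG => eq_of_corners_eq (hG.trans (corners_eq_vert F).symm)⟩

theorem isParabolic_iff (S : Set ι) :
    IsParabolicSubset P S ↔ ∃! F : Facet P, F.parab = S := by
  refine ⟨fun h => ?_, ?_⟩
  · obtain ⟨F, hF⟩ := exists_facet_parab h
    exact ⟨F, hF, fun G hG => eq_of_parab_eq (hG.trans hF.symm)⟩
  · rintro ⟨F, rfl, -⟩; exact isParabolic_parab F

/-! ### The sum of the roots of a parabolic set and of the elementary sets -/

theorem reflection_eq_self {a : ι} {x : M} (h : P.coroot' a x = 0) : P.reflection a x = x := by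
  rw [RootPairing.reflection_apply, h, zero_smul, sub_zero]

theorem sgn_reflectionPerm {F : Facet P} {a : ι} (ha : F.sgn a = 0) (i : ι) :
    F.sgn (P.reflectionPerm a i) = F.sgn i := by
  rw [sgn_eq, sgn_eq, bf_reflectionPerm, reflection_eq_self]
  rw [sgn_eq, sign_eq_zero_iff] at ha
  exact (coroot'_eq_zero_iff _ _).2 ha

theorem pairing_reflectionPerm_left (a i : ι) :
    P.pairing (P.reflectionPerm a i) a = -P.pairing i a := by
  rw [← root_coroot_eq_pairing, root_reflectionPerm, RootPairing.reflection_apply]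
  show P.toLinearMap (P.root i - P.coroot' a (P.root i) • P.root a) (P.coroot a) = _
  rw [map_sub, map_smul, LinearMap.sub_apply, LinearMap.smul_apply, root_coroot_two,
    show P.coroot' a (P.root i) = P.pairing i a from rfl, root_coroot_eq_pairing, smul_eq_mul]
  ring

theorem coroot'_sum_eq_zero {a : ι} (s : Finset ι) (h : ∀ i ∈ s, P.reflectionPerm a i ∈ s) :
    P.coroot' a (∑ i ∈ s, P.root i) = 0 := by
  rw [map_sum]
  have : ∑ i ∈ s, P.pairing i a = ∑ i ∈ s, P.pairing (P.reflectionPerm a i) a :=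
    Finset.sum_nbij' (fun i => P.reflectionPerm a i) (fun i => P.reflectionPerm a i)
      (fun i hi => h i hi) (fun i hi => h i hi) (fun i _ => P.reflectionPerm_self a i)
      (fun i _ => P.reflectionPerm_self a i) (fun i _ => by rw [P.reflectionPerm_self])
  simp only [pairing_reflectionPerm_left, Finset.sum_neg_distrib] at this
  show ∑ i ∈ s, P.pairing i a = 0
  linarith

theorem sum_pos_pairing (b : P.Base) {a : ι} (ha : a ∈ b.support) [DecidablePred b.IsPos] :
    ∑ i ∈ Finset.univ.filter b.IsPos, P.pairing i a = 2 := by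
  classical
  rw [← Finset.add_sum_erase _ _ (Finset.mem_filter.2 ⟨Finset.mem_univ a,
    Base.isPos_of_mem_support ha⟩), pairing_same]
  have := coroot'_sum_eq_zero (P := P) (a := a) ((Finset.univ.filter b.IsPos).erase a) (by
    intro i hi
    simp only [Finset.mem_erase, Finset.mem_filter, Finset.mem_univ, true_and] at hi ⊢
    exact ⟨fun e => isPos_refl_self ha (by rw [← P.reflectionPerm_self a i, e] at hi; exact hi.2),
      hi.2.reflectionPerm ha hi.1⟩)
  rw [map_sum] at this
  change ∑ i ∈ _, P.pairing i a = 0 at this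
  rw [this, add_zero]

theorem pairing_simple_nonpos (b : P.Base) {l j : ι} (hl : l ∈ b.support) (hj : j ∈ b.support)
    (hne : l ≠ j) : P.pairing l j ≤ 0 := by
  rw [← P.algebraMap_pairingIn ℤ, eq_intCast]
  exact_mod_cast b.pairingIn_le_zero_of_ne hne hl hj

theorem pairing_eq_sum (b : P.Base) (i a : ι) :
    P.pairing i a = ∑ l : b.support, cf b i l * P.pairing l a := by
  rw [← root_coroot_eq_pairing, root_eq_sum b i]
  simp [map_sum, map_smul, LinearMap.sum_apply, root_coroot_eq_pairing]

/-- The sum of the roots of the parabolic set of a facet. -/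
noncomputable def parabSum (F : Facet P) : M := ∑ i ∈ (Set.toFinite F.parab).toFinset, P.root i

theorem parabSum_mem (F : Facet P) : parabSum F ∈ F.carrier := by
  classical
  obtain ⟨b, hb⟩ := cham_nonempty F
  rw [mem_carrier_iff_sum hb]
  refine fun j => ⟨fun h0 => coroot'_sum_eq_zero _ fun i hi => ?_, fun hj => ?_⟩
  · rw [Set.Finite.mem_toFinset] at hi ⊢
    show F.sgn _ ≠ -1
    rwa [sgn_reflectionPerm h0]
  · rw [parabSum, map_sum]
    show 0 < ∑ i ∈ _, P.pairing i j
    rw [← Finset.sum_filter_add_sum_filter_not _ (fun i => b.IsPos i),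
      show (Set.toFinite F.parab).toFinset.filter (fun i => b.IsPos i) =
        Finset.univ.filter b.IsPos from Finset.ext fun i => by
          simpa using pos_subset_parab hb, sum_pos_pairing b j.2]
    have : 0 ≤ ∑ i ∈ (Set.toFinite F.parab).toFinset.filter (fun i => ¬ b.IsPos i),
        P.pairing i j := by
      refine Finset.sum_nonneg fun i hi => ?_
      simp only [Finset.mem_filter, Set.Finite.mem_toFinset] at hi
      have hp := (isPos_nr b i).2 hi.2
      have hz : F.sgn (P.reflectionPerm i i) = 0 := by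
        rw [← nr_mem_parab_iff hb hp, refl_self_inv]; exact hi.1
      rw [pairing_eq_sum b]
      refine Finset.sum_nonneg fun l _ => ?_
      by_cases hl : cf b i l = 0
      · rw [hl, zero_mul]
      · have hl0 := (sgn_eq_zero_iff hb hp).1 hz l (by rw [cf_nr]; exact neg_ne_zero.2 hl)
        refine mul_nonneg_of_nonpos_of_nonpos ?_ (pairing_simple_nonpos b l.2 j.2
          fun e => hj (e ▸ hl0))
        have := cf_nonneg b hp l
        rw [cf_nr] at this
        linarith
    linarith

theorem mem_Psi_iff {F : Facet P} {b : P.Base} (hb : b ∈ F.cham) (l : b.support) (i : ι) :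
    i ∈ F.Psi (fundWeight b l) ↔
      cf b i l = 1 ∧ ∀ l' : b.support, F.sgn l' ≠ 0 → l' ≠ l → cf b i l' = 0 := by
  simp only [Facet.Psi, mem_setOf_eq, corners_eq hb, Set.forall_mem_image, corr_iff, forall_eq,
    (fundWeight_injective b).ne_iff]

theorem self_mem_Psi {F : Facet P} {b : P.Base} (hb : b ∈ F.cham) (l : b.support) :
    (l : ι) ∈ F.Psi (fundWeight b l) :=
  (mem_Psi_iff hb l l).2 ⟨root'_fundCoweight_self b l,
    fun l' _ h => root'_fundCoweight_of_ne b l' l h.symm⟩

/-- The sum of the roots of an elementary set of roots. -/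
noncomputable def psiSum (F : Facet P) (m : M) : M :=
  ∑ i ∈ (Set.toFinite (F.Psi m)).toFinset, P.root i

theorem psiSum_mem (F : Facet P) {m : M} (hm : m ∈ F.corners) :
    psiSum F m ∈ Submodule.span R F.corners := by
  classical
  obtain ⟨b, hb⟩ := cham_nonempty F
  obtain ⟨l, hl, rfl⟩ := (corners_eq hb).subset hm
  rw [mem_span_corners_iff hb]
  intro j hj h0
  refine coroot'_sum_eq_zero _ fun i hi => ?_
  rw [Set.Finite.mem_toFinset, mem_Psi_iff hb] at hi ⊢
  have key : ∀ l' : b.support, F.sgn l' ≠ 0 → cf b (P.reflectionPerm j i) l' = cf b i l' := by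
    intro l' hl'
    have hne : (⟨j, hj⟩ : b.support) ≠ l' := fun e => hl' (by rw [← e]; exact h0)
    show P.toLinearMap (P.root _) _ = _
    rw [root_reflectionPerm, RootPairing.reflection_apply, map_sub, map_smul, LinearMap.sub_apply,
      LinearMap.smul_apply]
    have : cf b j l' = 0 := by
      rw [cf_simple b ⟨j, hj⟩ l', if_neg hne]
    rw [show P.toLinearMap (P.root j) (fundCoweight b l') = cf b j l' from rfl, this, smul_zero,
      sub_zero]
  refine ⟨(key l hl).trans hi.1, fun l' hl' hne => (key l' hl').trans (hi.2 l' hl' hne)⟩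

end GrothLib.RootCh
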