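import Mathlib.Analysis.Convex.Combination
import Mathlib.Analysis.Convex.Hull
import Mathlib.LinearAlgebra.Dual.Lemmas
import Mathlib.LinearAlgebra.BilinearForm.Properties
import Mathlib.Algebra.Order.Field.Basic

/-! Farkas' lemma, separation from polytopes and nearest points, over an ordered field. -/

namespace GrothLib.RootCh

open Function Set Module

variable {R : Type*} [Field R] [LinearOrder R] [IsStrictOrderedRing R]
  {V : Type*} [AddCommGroup V] [Module R V]

theorem farkas : ∀ {n : ℕ} (a : Fin n → V) (b : V),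
    (∃ w : Fin n → R, (∀ i, 0 ≤ w i) ∧ ∑ i, w i • a i = b) ∨
      ∃ φ : Module.Dual R V, (∀ i, 0 ≤ φ (a i)) ∧ φ b < 0
  | 0, a, b => by
    by_cases hb : b = 0
    · exact Or.inl ⟨0, fun _ => le_rfl, by simp [hb]⟩
    · obtain ⟨φ, hφ⟩ : ∃ φ : Module.Dual R V, φ b ≠ 0 := by
        by_contra hn
        push Not at hn
        exact hb ((Module.forall_dual_apply_eq_zero_iff R b).1 hn)
      rcases lt_or_gt_of_ne hφ with h | h
      · exact Or.inr ⟨φ, fun i => i.elim0, h⟩
      · exact Or.inr ⟨-φ, fun i => i.elim0, by simpa using h⟩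
  | n + 1, a, b => by
    rcases farkas (fun i => a i.succ) b with ⟨w, hw, hsum⟩ | ⟨φ, hφ, hb⟩
    · refine Or.inl ⟨Fin.cons 0 w, Fin.cases le_rfl hw, ?_⟩
      rw [Fin.sum_univ_succ]
      simpa using hsum
    rcases le_or_gt 0 (φ (a 0)) with h0 | h0
    · exact Or.inr ⟨φ, Fin.cases h0 hφ, hb⟩
    let π : V →ₗ[R] V := LinearMap.id - (φ (a 0))⁻¹ • φ.smulRight (a 0)
    have hπ : ∀ v, π v = v - ((φ (a 0))⁻¹ * φ v) • a 0 := fun v => by simp [π, mul_smul]
    rcases farkas (fun i => π (a i.succ)) (π b) with ⟨w, hw, hsum⟩ | ⟨ψ, hψ, hψb⟩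
    · simp only [hπ, smul_sub, Finset.sum_sub_distrib, smul_smul, ← Finset.sum_smul] at hsum
      set μ : R := (φ (a 0))⁻¹ * φ b - ∑ i, w i * ((φ (a 0))⁻¹ * φ (a i.succ)) with hμ
      have hμ0 : 0 ≤ μ := by
        have h1 : 0 ≤ (φ (a 0))⁻¹ * φ b :=
          mul_nonneg_of_nonpos_of_nonpos (inv_nonpos.2 h0.le) hb.le
        have h2 : ∑ i, w i * ((φ (a 0))⁻¹ * φ (a i.succ)) ≤ 0 :=
          Finset.sum_nonpos fun i _ => mul_nonpos_of_nonneg_of_nonpos (hw i)
            (mul_nonpos_of_nonpos_of_nonneg (inv_nonpos.2 h0.le) (hφ i))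
        rw [hμ]
        linarith
      refine Or.inl ⟨Fin.cons μ w, Fin.cases hμ0 hw, ?_⟩
      rw [Fin.sum_univ_succ, Fin.cons_zero]
      simp only [Fin.cons_succ]
      rw [sub_eq_iff_eq_add] at hsum
      rw [hsum, hμ, sub_smul]
      abel
    · refine Or.inr ⟨ψ.comp π, Fin.cases ?_ hψ, hψb⟩
      rw [LinearMap.comp_apply, hπ, inv_mul_cancel₀ h0.ne, one_smul, sub_self, map_zero]

theorem exists_separation {s : Set V} (hs : s.Finite) {y : V} (hy : y ∉ convexHull R s) :
    ∃ ψ : Module.Dual R V, ∀ v ∈ s, ψ y < ψ v := by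
  classical
  obtain ⟨n, f, hf⟩ := hs.fin_param
  rcases farkas (R := R) (fun i => ((f i - y, (1 : R)) : V × R)) (0, 1) with
    ⟨w, hw, hsum⟩ | ⟨φ, hφ, hb⟩
  · refine absurd ?_ hy
    have h1 := congrArg Prod.fst hsum
    have h2 := congrArg Prod.snd hsum
    simp only [Prod.fst_sum, Prod.snd_sum, Prod.smul_fst, Prod.smul_snd, smul_eq_mul,
      mul_one] at h1 h2
    simp only [smul_sub, Finset.sum_sub_distrib, ← Finset.sum_smul, h2, one_smul, sub_eq_zero] at h1
    rw [← h1]
    exact (convex_convexHull R s).sum_mem (fun i _ => hw i) h2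
      fun i _ => subset_convexHull R s (hf.2 ▸ mem_range_self i)
  · refine ⟨φ.comp (LinearMap.inl R V R), fun v hv => ?_⟩
    obtain ⟨i, rfl⟩ : v ∈ range f := hf.2.symm ▸ hv
    have e : φ (f i - y, (1 : R)) = φ (f i - y, 0) + φ (0, 1) := by
      rw [← map_add]; simp
    have e' : φ (f i - y, (0 : R)) = φ (f i, 0) - φ (y, 0) := by
      rw [← map_sub]; simp
    have := hφ i
    show φ (y, 0) < φ (f i, 0)
    linarith

section Nearest

variable (B : LinearMap.BilinForm R V) (hBs : ∀ y z : V, B y z = B z y)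
  (hBp : ∀ y : V, y ≠ 0 → 0 < B y y)

include hBp in
theorem self_nonneg (y : V) : 0 ≤ B y y := by
  by_cases h : y = 0
  · simp [h]
  · exact (hBp y h).le

include hBs in
theorem expand (z y : V) : B y y = B z z + 2 * B z (y - z) + B (y - z) (y - z) := by
  simp only [map_sub, LinearMap.sub_apply, hBs y z]
  ring

include hBs hBp in
theorem variational {K : Set V} (hK : Convex R K) {z : V} (hz : z ∈ K)
    (hmin : ∀ y ∈ K, B z z ≤ B y y) {y : V} (hy : y ∈ K) : 0 ≤ B z (y - z) := by
  by_contra hn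
  have hlt := lt_of_not_ge hn
  set u := y - z with hu
  have hu0 : u ≠ 0 := fun e => by rw [e, map_zero] at hlt; exact lt_irrefl _ hlt
  have hp := hBp u hu0
  set t := min 1 (-B z u / B u u) with ht
  have htpos : 0 < t := lt_min one_pos (div_pos (neg_pos.2 hlt) hp)
  have htle : t * B u u ≤ -B z u :=
    (mul_le_mul_of_nonneg_right (min_le_right _ _) hp.le).trans_eq (div_mul_cancel₀ _ hp.ne')
  have hmem : z + t • u ∈ K := by
    have : z + t • u = (1 - t) • z + t • y := by rw [hu, sub_smul, one_smul, smul_sub]; abel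
    rw [this]
    exact hK hz hy (sub_nonneg.2 (min_le_left _ _)) htpos.le (sub_add_cancel _ _)
  have := hmin _ hmem
  rw [expand B hBs z (z + t • u), add_sub_cancel_left, map_smul, map_smul, map_smul,
    LinearMap.smul_apply, smul_eq_mul, smul_eq_mul, smul_eq_mul] at this
  nlinarith

include hBs hBp in
theorem le_of_var {z y : V} (h : 0 ≤ B z (y - z)) : B z z ≤ B y y := by
  rw [expand B hBs z y]
  linarith [self_nonneg B hBp (y - z)]

include hBs hBp in
theorem lt_of_var {z y : V} (h : 0 ≤ B z (y - z)) (hne : y ≠ z) : B z z < B y y := by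
  rw [expand B hBs z y]
  linarith [hBp _ (sub_ne_zero.2 hne)]

include hBs hBp in
theorem exists_proj (W : Submodule R V) [FiniteDimensional R W] (v : V) :
    ∃ q ∈ W, ∀ u ∈ W, B (v + q) u = 0 := by
  let T : W →ₗ[R] Module.Dual R W := LinearMap.mk₂ R (fun a c : W => B a c)
    (by simp) (by simp) (by simp) (by simp)
  have hinj : Injective T := by
    rw [injective_iff_map_eq_zero]
    intro a ha
    by_contra hne
    have := hBp (a : V) (by simpa using hne)
    have h0 : T a a = 0 := by rw [ha]; rfl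
    exact this.ne' h0
  have hsurj : Surjective T :=
    (LinearMap.injective_iff_surjective_of_finrank_eq_finrank (Subspace.dual_finrank_eq).symm).1 hinj
  obtain ⟨a, ha⟩ := hsurj (-((B v).comp W.subtype))
  refine ⟨a, a.2, fun u hu => ?_⟩
  have := LinearMap.congr_fun ha ⟨u, hu⟩
  change B a u = -(B v u) at this
  rw [map_add, LinearMap.add_apply, this, add_neg_cancel]

include hBs hBp in
theorem exists_nearest : ∀ s : Finset V, s.Nonempty →
    ∃ z ∈ convexHull R (s : Set V), ∀ y ∈ convexHull R (s : Set V), B z z ≤ B y y := by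
  classical
  intro s
  induction s using Finset.strongInductionOn with
  | _ s ih =>
  intro hs
  obtain ⟨v₀, hv₀⟩ := hs
  haveI : FiniteDimensional R (Submodule.span R (range fun v : s => (v : V) - v₀)) :=
    FiniteDimensional.span_of_finite R (finite_range _)
  obtain ⟨q, hq, hperp⟩ := exists_proj B hBs hBp (Submodule.span R (range fun v : s => (v : V) - v₀)) v₀
  obtain ⟨c, hc⟩ := Submodule.mem_span_range_iff_exists_fun R |>.1 hq
  let u : V → R := fun v =>
    (if h : v ∈ s then c ⟨v, h⟩ else 0) + if v = v₀ then 1 - ∑ i, c i else 0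
  have hu1 : ∑ v ∈ s, u v = 1 := by
    simp only [u, Finset.sum_add_distrib, Finset.sum_ite_eq', hv₀, if_true]
    rw [Finset.sum_dite_of_true (fun _ h => h)]
    simp
  have hup : ∑ v ∈ s, u v • v = v₀ + q := by
    simp only [u, add_smul, ite_smul, zero_smul, Finset.sum_add_distrib, Finset.sum_ite_eq', hv₀,
      if_true, dite_smul]
    rw [Finset.sum_dite_of_true (fun _ h => h), ← hc]
    simp only [smul_sub, Finset.sum_sub_distrib, ← Finset.sum_smul, sub_smul, one_smul]
    abel
  set p := v₀ + q with hp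
  have hmin : ∀ w : V → R, ∑ v ∈ s, w v = 1 → B p p ≤ B (∑ v ∈ s, w v • v) (∑ v ∈ s, w v • v) := by
    intro w hw
    refine le_of_var B hBs hBp (le_of_eq ?_)
    refine (hperp _ ?_).symm
    have : ∑ v ∈ s, w v • v - p = ∑ v ∈ s, w v • (v - v₀) - q := by
      simp only [smul_sub, Finset.sum_sub_distrib, ← Finset.sum_smul, hw, one_smul, hp]
      abel
    rw [this]
    exact Submodule.sub_mem _ (Submodule.sum_mem _ fun v hv =>
      Submodule.smul_mem _ _ (Submodule.subset_span ⟨⟨v, hv⟩, rfl⟩)) hq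
  by_cases hpos : ∀ v ∈ s, 0 ≤ u v
  · refine ⟨p, ?_, fun y hy => ?_⟩
    · rw [← hup]
      exact (convex_convexHull R _).sum_mem hpos hu1 fun v hv => subset_convexHull R _ hv
    · obtain ⟨w, -, hw1, rfl⟩ := Finset.mem_convexHull'.1 hy
      exact hmin w hw1
  push Not at hpos
  obtain ⟨v₁, hv₁, hv₁'⟩ := hpos
  have hne : ∀ v ∈ s, (s.erase v).Nonempty := by
    intro v hv
    by_contra hem
    have hsv : s = {v} := Finset.eq_singleton_iff_unique_mem.2 ⟨hv, fun x hx => by
      by_contra hxv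
      exact hem ⟨x, Finset.mem_erase.2 ⟨hxv, hx⟩⟩⟩
    subst hsv
    rw [Finset.sum_singleton] at hu1
    rw [Finset.mem_singleton.1 hv₁, hu1] at hv₁'
    linarith
  choose z hz hzmin using fun v : s =>
    ih (s.erase v) (Finset.erase_ssubset v.2) (hne v v.2)
  obtain ⟨v₂, -, hv₂⟩ := Finset.exists_min_image Finset.univ (fun v : s => B (z v) (z v))
    ⟨⟨v₀, hv₀⟩, Finset.mem_univ _⟩
  refine ⟨z v₂, convexHull_mono (by simp) (hz v₂), fun y hy => ?_⟩
  obtain ⟨w, hw0, hw1, rfl⟩ := Finset.mem_convexHull'.1 hy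
  obtain ⟨v, hv, hvmin⟩ := Finset.exists_min_image (s.filter fun v => u v < 0)
    (fun v => w v / (w v - u v)) ⟨v₁, Finset.mem_filter.2 ⟨hv₁, hv₁'⟩⟩
  rw [Finset.mem_filter] at hv
  set t := w v / (w v - u v) with ht
  have hwv := hw0 v hv.1
  have hden : 0 < w v - u v := by linarith [hv.2]
  have ht0 : 0 ≤ t := div_nonneg hwv hden.le
  have ht1 : t ≤ 1 := (div_le_one hden).2 (by linarith [hv.2])
  let w' : V → R := fun x => w x + t * (u x - w x)
  have hw'0 : ∀ x ∈ s, 0 ≤ w' x := by
    intro x hx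
    rcases lt_or_ge (u x) 0 with hux | hux
    · have hh := hvmin x (Finset.mem_filter.2 ⟨hx, hux⟩)
      have := (le_div_iff₀ (by linarith [hw0 x hx])).1 hh
      show 0 ≤ w x + t * (u x - w x)
      nlinarith
    · show 0 ≤ w x + t * (u x - w x)
      nlinarith [hw0 x hx]
  have hw'v : w' v = 0 := by
    have : t * (w v - u v) = w v := div_mul_cancel₀ _ hden.ne'
    show w v + t * (u v - w v) = 0
    linarith
  have hw'1 : ∑ x ∈ s, w' x = 1 := by
    simp only [w', Finset.sum_add_distrib, ← Finset.mul_sum, Finset.sum_sub_distrib, hu1, hw1]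
    ring
  set y := ∑ x ∈ s, w x • x with hy_def
  have hy' : ∑ x ∈ s, w' x • x = y + t • (p - y) := by
    simp only [w', add_smul, mul_smul, sub_smul, Finset.sum_add_distrib, ← Finset.smul_sum,
      Finset.sum_sub_distrib, hup, ← hy_def]
  have hmem : y + t • (p - y) ∈ convexHull R (↑(s.erase v) : Set V) := by
    rw [← hy', ← Finset.sum_erase (f := fun x => w' x • x) s (show w' v • v = 0 by rw [hw'v, zero_smul])]
    exact (convex_convexHull R _).sum_mem (fun x hx => hw'0 x (Finset.mem_of_mem_erase hx))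
      (by rw [Finset.sum_erase s hw'v]; exact hw'1) fun x hx => subset_convexHull R _ hx
  have h1 := hzmin ⟨v, hv.1⟩ _ hmem
  have h2 := hv₂ ⟨v, hv.1⟩ (Finset.mem_univ _)
  refine (h2.trans h1).trans ?_
  have h3 := hmin w hw1
  rw [← hy_def] at h3
  simp only [map_add, map_smul, map_sub, LinearMap.add_apply, LinearMap.smul_apply,
    LinearMap.sub_apply, smul_eq_mul, hBs p y]
  have h4 := self_nonneg B hBp (p - y)
  simp only [map_sub, LinearMap.sub_apply, hBs p y] at h4
  nlinarith [mul_nonneg (mul_nonneg ht0 (sub_nonneg.2 ht1)) h4, mul_nonneg ht0 (sub_nonneg.2 h3)]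

end Nearest

end GrothLib.RootCh
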