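import Groth.Agent.Lib.RootCh.Parab
import Groth.Agent.Lib.RootCh.Sep

/-! Complementary convex solids: dual solids, semistability, special facets. -/

set_option linter.unusedSectionVars false

namespace GrothLib.RootCh

open Function Set Module RootPairing _root_.RootCh

universe u v w x

variable {ι : Type u} {R : Type v} {M : Type w} {N : Type x}
  [Field R] [LinearOrder R] [IsStrictOrderedRing R]
  [AddCommGroup M] [Module R M] [AddCommGroup N] [Module R N] [Fintype ι]
  {P : RootPairing ι R M N} [P.IsRootSystem] [P.IsCrystallographic] [P.IsReduced]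
  {d : P.Base → N}

theorem card_support_eq (b b' : P.Base) : b.support.card = b'.support.card := by
  rw [← Fintype.card_coe b.support, ← Fintype.card_coe b'.support,
    ← finrank_eq_card_basis b.toWeightBasis, ← finrank_eq_card_basis b'.toWeightBasis]

theorem wall_diff_nonneg (hd : IsCCS d) (b b' : P.Base) {a : ι} (ha : a ∈ b.support)
    (hb' : ∀ i, b'.IsPos i ↔ (b.IsPos i ∧ i ≠ a) ∨ i = P.reflectionPerm a a) {η : M}
    (hη : P.coroot' a η ≤ 0) :
    P.toLinearMap η (d b') ≤ P.toLinearMap η (d b) := by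
  classical
  have hcl : ∀ l : b.support, (l : ι) ≠ a → fundWeight b l ∈ closedChamber b' := by
    intro l hl
    rw [mem_closedChamber_iff]
    intro i hi
    rcases (hb' i).1 hi with ⟨h, -⟩ | rfl
    · exact (mem_closedChamber_iff b _).1 (fundWeight_mem_closedChamber b l) i h
    · rw [bf_nr, (coroot'_eq_zero_iff _ _).1 (coroot'_fundWeight_of_ne b l ⟨a, ha⟩
        fun e => hl (congrArg Subtype.val e).symm), neg_zero]
  have heq : ∀ l : b.support, (l : ι) ≠ a →
      P.toLinearMap (fundWeight b l) (d b) = P.toLinearMap (fundWeight b l) (d b') := fun l hl =>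
    hd.corner_eq b b' _ (by rw [baseCorners_eq]; exact mem_range_self l)
      ⟨⟨b, l, rfl⟩, hcl l hl⟩
  have hinter : baseCorners b ∩ baseCorners b' = fundWeight b '' {l | (l : ι) ≠ a} := by
    ext m
    rw [baseCorners_eq b]
    constructor
    · rintro ⟨⟨l, rfl⟩, h⟩
      refine ⟨l, fun e => ?_, rfl⟩
      have := (mem_closedChamber_iff b' _).1 h.2 _ ((hb' _).2 (Or.inr rfl))
      rw [bf_nr] at this
      have h1 : 0 < bf P a (fundWeight b l) := by
        rw [← coroot'_pos_iff, ← e, coroot'_fundWeight_self]; exact one_pos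
      linarith
    · rintro ⟨l, hl, rfl⟩
      exact ⟨mem_range_self l, ⟨b, l, rfl⟩, hcl l hl⟩
  have hcard : (baseCorners b ∩ baseCorners b').ncard + 1 = b.support.card := by
    rw [hinter, ncard_image_of_injective _ (fundWeight_injective b),
      show {l : b.support | (l : ι) ≠ a} = {⟨a, ha⟩}ᶜ by ext l; simp [Subtype.ext_iff],
      ncard_compl, ncard_singleton, Nat.card_eq_fintype_card, Fintype.card_coe]
    have := Finset.card_pos.2 ⟨a, ha⟩
    omega
  have hflip : ∀ j, (b.IsPos j ∧ ¬ b'.IsPos j) ↔ j = a := by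
    intro j
    rw [hb' j]
    constructor
    · rintro ⟨h, h'⟩
      by_contra hne
      exact h' (Or.inl ⟨h, hne⟩)
    · rintro rfl
      refine ⟨Base.isPos_of_mem_support ha, ?_⟩
      rintro (⟨-, h⟩ | h)
      · exact h rfl
      · exact isPos_refl_self ha (h ▸ Base.isPos_of_mem_support ha)
  have hwall := hd.wall_le b b' a hcard hflip
  have hexp : ∀ z : M, P.toLinearMap z (d b') - P.toLinearMap z (d b) =
      P.coroot' a z * (P.toLinearMap (fundWeight b ⟨a, ha⟩) (d b') -
        P.toLinearMap (fundWeight b ⟨a, ha⟩) (d b)) := by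
    intro z
    conv_lhs => rw [eq_sum_fundWeight b z]
    simp only [map_sum, map_smul, LinearMap.sum_apply, LinearMap.smul_apply,
      ← Finset.sum_sub_distrib, smul_eq_mul, ← mul_sub]
    refine Finset.sum_eq_single (⟨a, ha⟩ : b.support) (fun l _ hl => ?_) (fun h => absurd (Finset.mem_univ _) h)
    rw [heq l fun e => hl (Subtype.ext e), sub_self, mul_zero]
  have h1 := hexp (P.root a)
  change P.root' a (d b') - P.root' a (d b) = P.pairing a a * _ at h1
  rw [pairing_same] at h1
  have hpos : 0 ≤ P.toLinearMap (fundWeight b ⟨a, ha⟩) (d b') -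
      P.toLinearMap (fundWeight b ⟨a, ha⟩) (d b) := by linarith
  have := hexp η
  nlinarith [mul_nonpos_of_nonpos_of_nonneg hη hpos]

/-- The value of `d` at a chamber containing `η` minimises the pairing with `η`. -/
theorem dmin (hd : IsCCS d) {η : M} {b : P.Base} (hη : η ∈ closedChamber b) :
    ∀ b' : P.Base, P.toLinearMap η (d b) ≤ P.toLinearMap η (d b') := by
  classical
  suffices H : ∀ n (b' : P.Base), (Finset.univ.filter fun i => b'.IsPos i ∧ ¬ b.IsPos i).card = n →
      P.toLinearMap η (d b) ≤ P.toLinearMap η (d b') from fun b' => H _ b' rfl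
  intro n
  induction n using Nat.strong_induction_on with
  | _ n ih =>
  intro b' hn
  by_cases hall : ∀ a ∈ b'.support, b.IsPos a
  · have : b' = b := base_eq_of_isPos fun i hi =>
      hi.induction_on_add (p := fun i => b.IsPos i) hall
        fun i j k hk hp hj => hp.add (hall j hj) hk
    rw [this]
  push Not at hall
  obtain ⟨a, ha, hab⟩ := hall
  obtain ⟨b'', hb''⟩ := exists_adjacent b' ha
  have hna := (isPos_nr b a).2 hab
  have hle : P.coroot' a η ≤ 0 := by
    have := (coroot'_nonneg_iff _ η).2 ((mem_closedChamber_iff b η).1 hη _ hna)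
    rw [coroot'_nr] at this
    linarith
  have hlt : (Finset.univ.filter fun i => b''.IsPos i ∧ ¬ b.IsPos i).card < n := by
    rw [← hn]
    refine Finset.card_lt_card ((Finset.ssubset_iff_of_subset fun i hi => ?_).2 ⟨a, ?_, ?_⟩)
    · simp only [Finset.mem_filter, Finset.mem_univ, true_and] at hi ⊢
      rcases (hb'' i).1 hi.1 with ⟨h, -⟩ | rfl
      · exact ⟨h, hi.2⟩
      · exact absurd hna hi.2
    · simp [Base.isPos_of_mem_support ha, hab]
    · simp only [Finset.mem_filter, Finset.mem_univ, true_and, not_and, not_not]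
      intro h
      rcases (hb'' a).1 h with ⟨-, h⟩ | h
      · exact absurd rfl h
      · exact absurd (h ▸ Base.isPos_of_mem_support ha) (isPos_refl_self ha)
  exact (ih _ hlt b'' rfl).trans (wall_diff_nonneg hd b' b'' ha hb'' hle)

theorem pair_eq (hd : IsCCS d) {η : M} {b b' : P.Base} (hb : η ∈ closedChamber b)
    (hb' : η ∈ closedChamber b') : P.toLinearMap η (d b) = P.toLinearMap η (d b') :=
  le_antisymm (dmin hd hb b') (dmin hd hb' b)

theorem le_of_mem_solid (hd : IsCCS d) {η : M} {b : P.Base} (hη : η ∈ closedChamber b) {y : N}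
    (hy : y ∈ solid d) : P.toLinearMap η (d b) ≤ P.toLinearMap η y :=
  convexHull_min (t := {y : N | P.toLinearMap η (d b) ≤ P.toLinearMap η y})
    (by rintro _ ⟨b', rfl⟩; exact dmin hd hη b')
    (convex_halfSpace_ge (P.toLinearMap η).isLinear _) hy

theorem eq_of_mem_hyper {F : Facet P} {b : P.Base} (hb : b ∈ F.cham) {y : N}
    (hy : y ∈ ⋂ m ∈ F.corners, hyper d m) {v : M} (hv : v ∈ Submodule.span R F.corners) :
    P.toLinearMap v y = P.toLinearMap v (d b) := by
  induction hv using Submodule.span_induction with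
  | mem m hm => exact mem_iInter₂.1 hy m hm b ⟨hm.1, ((mem_closure_iff hb).1 hm.2).1⟩
  | zero => simp
  | add _ _ _ _ h₁ h₂ => simp [h₁, h₂]
  | smul r _ _ h => simp [h]

theorem pair_eq_of_span_corners (hd : IsCCS d) {F : Facet P} {b b' : P.Base} (hb : b ∈ F.cham)
    (hb' : b' ∈ F.cham) {v : M} (hv : v ∈ Submodule.span R F.corners) :
    P.toLinearMap v (d b) = P.toLinearMap v (d b') := by
  induction hv using Submodule.span_induction with
  | mem m hm => exact pair_eq hd ((mem_closure_iff hb).1 hm.2).1 ((mem_closure_iff hb').1 hm.2).1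
  | zero => simp
  | add _ _ _ _ h₁ h₂ => simp [h₁, h₂]
  | smul r _ _ h => simp [h]

theorem parabSum_mem_span (F : Facet P) : parabSum F ∈ Submodule.span R F.corners :=
  carrier_subset_span F (parabSum_mem F)

theorem deg_eq (F : Facet P) (b : P.Base) : F.deg d b = P.toLinearMap (parabSum F) (d b) := by
  simp [Facet.deg, parabSum, RootPairing.root', map_sum, LinearMap.sum_apply]

theorem numInv_eq (F : Facet P) (m : M) (b : P.Base) :
    F.numInv d m b = P.toLinearMap (psiSum F m) (d b) := by
  simp [Facet.numInv, psiSum, RootPairing.root', map_sum, LinearMap.sum_apply]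

theorem deg_indep (hd : IsCCS d) (F : Facet P) {b b' : P.Base} (hb : b ∈ F.cham)
    (hb' : b' ∈ F.cham) : F.deg d b = F.deg d b' := by
  rw [deg_eq, deg_eq]; exact pair_eq_of_span_corners hd hb hb' (parabSum_mem_span F)

theorem numInv_indep (hd : IsCCS d) (F : Facet P) {m : M} (hm : m ∈ F.corners) {b b' : P.Base}
    (hb : b ∈ F.cham) (hb' : b' ∈ F.cham) : F.numInv d m b = F.numInv d m b' := by
  rw [numInv_eq, numInv_eq]; exact pair_eq_of_span_corners hd hb hb' (psiSum_mem F hm)

theorem finite_base : Finite P.Base := by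
  refine Finite.of_injective (fun b : P.Base => b.support) fun b b' h => ?_
  cases b; cases b'; simp only at h; subst h; rfl

theorem dualSolid_subset_solid (F : Facet P) : dualSolid d F ⊆ solid d :=
  convexHull_mono (image_subset_range d _)

theorem dualSolid_eq (hd : IsCCS d) (F : Facet P) :
    dualSolid d F = (⋂ m ∈ F.corners, hyper d m) ∩ ⋂ m ∈ F.corners', halfClosed d m := by
  classical
  apply Set.Subset.antisymm
  · intro y hy
    refine ⟨?_, ?_⟩
    rotate_left
    · simp only [mem_iInter]
      intro m _ b' hb'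
      exact le_of_mem_solid hd hb'.2 (dualSolid_subset_solid F hy)
    simp only [mem_iInter]
    intro m hm b' hb'
    refine convexHull_min (t := {y : N | P.toLinearMap m y = P.toLinearMap m (d b')}) ?_
      (convex_hyperplane (P.toLinearMap m).isLinear _) hy
    rintro _ ⟨b, hb, rfl⟩
    exact pair_eq hd ((mem_closure_iff hb).1 hm.2).1 hb'.2
  · intro y hy
    have := finite_base (P := P)
    by_contra hn
    obtain ⟨ψ, hψ⟩ := exists_separation ((Set.toFinite F.cham).image d) hn
    obtain ⟨ξ, rfl⟩ := P.toPerfPair.surjective ψ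
    obtain ⟨t, ht, hsgn⟩ := exists_perturb (P := P) (pt F) ξ
    obtain ⟨b, hb⟩ := exists_closedChamber (P := P) (pt F + t • ξ)
    have hbF : b ∈ F.cham := by
      rw [mem_cham_iff, mem_closedChamber_iff]
      intro i hi
      by_contra hlt
      have hlt := lt_of_not_ge hlt
      have h1 := hsgn i hlt.ne
      rw [sign_neg hlt, sign_eq_neg_one_iff] at h1
      linarith [(mem_closedChamber_iff b _).1 hb i hi]
    have h1 : P.toLinearMap (pt F + t • ξ) (d b) ≤ P.toLinearMap (pt F + t • ξ) y := by
      rw [eq_sum_fundWeight b (pt F + t • ξ)]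
      simp only [map_sum, map_smul, LinearMap.sum_apply, LinearMap.smul_apply, smul_eq_mul]
      refine Finset.sum_le_sum fun l _ => mul_le_mul_of_nonneg_left ?_ (hb l l.2)
      have hcor : fundWeight b l ∈ baseCorners b := by rw [baseCorners_eq]; exact mem_range_self l
      exact mem_iInter₂.1 hy.2 _ (mem_iUnion₂.2 ⟨b, hbF, hcor⟩) b hcor
    have h2 := eq_of_mem_hyper hbF hy.1 (carrier_subset_span F (pt_mem F))
    have h3 : P.toLinearMap ξ y < P.toLinearMap ξ (d b) := hψ _ ⟨b, hbF, rfl⟩
    simp only [map_add, map_smul, LinearMap.add_apply, LinearMap.smul_apply, smul_eq_mul] at h1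
    nlinarith [mul_lt_mul_of_pos_left h3 ht]

theorem origin_cham : (Facet.origin P).cham = univ := by
  refine eq_univ_of_forall fun b y hy i hi => ?_
  have := congrFun hy i
  simp [sgnVec, Facet.origin, Facet.ofVec] at this
  exact this.ge

theorem origin_corners : (Facet.origin P).corners = ∅ := by
  obtain ⟨b⟩ := P.nonempty_base
  rw [corners_eq (b := b) (by rw [origin_cham]; trivial)]
  simp [Facet.origin, Facet.ofVec, sgnVec]

theorem semistable_iff_corners (hd : IsCCS d) :
    (∀ (b : P.Base), ∀ m ∈ baseCorners b, P.toLinearMap m (d b) ≤ 0) ↔ IsSemistable d := by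
  refine ⟨fun h => ?_, fun h b m hm => by simpa using le_of_mem_solid hd hm.2 h⟩
  have hsolid : dualSolid d (Facet.origin P) = solid d := by
    rw [dualSolid, origin_cham, image_univ]; rfl
  show (0 : N) ∈ solid d
  rw [← hsolid, dualSolid_eq hd, origin_corners]
  refine ⟨by simp, mem_iInter₂.2 fun m _ b hb => ?_⟩
  simpa using h b m hb

theorem deg_nonpos_of_semistable (hd : IsCCS d) (h : IsSemistable d) (F : Facet P) {b : P.Base}
    (hb : b ∈ F.cham) : F.deg d b ≤ 0 := by
  rw [deg_eq]
  simpa using le_of_mem_solid hd ((mem_carrier_iff hb).1 (parabSum_mem F)).1 h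

theorem semistable_of_deg_dim_one (hd : IsCCS d)
    (h : ∀ (F : Facet P) (b : P.Base), F.dim = 1 → b ∈ F.cham → F.deg d b ≤ 0) :
    IsSemistable d := by
  classical
  refine (semistable_iff_corners hd).1 fun b m hm => ?_
  rw [baseCorners_eq] at hm
  obtain ⟨l, rfl⟩ := hm
  obtain ⟨F, hb, hF⟩ := exists_facet b {l}
  have hdim : F.dim = 1 := by
    rw [Facet.dim, span_carrier, corners_eq hb,
      show {l' : b.support | F.sgn l' ≠ 0} = {l} from Set.ext hF, image_singleton,
      finrank_span_singleton (fundWeight_ne_zero b l)]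
  have hv := (mem_carrier_iff_sum hb).1 (parabSum_mem F)
  have hveq : parabSum F = P.coroot' l (parabSum F) • fundWeight b l := eq_of_coroot'_eq b fun j => by
    rw [map_smul, coroot'_fundWeight b l j]
    by_cases hj : j = l
    · subst hj; simp
    · rw [if_neg hj, smul_zero, (hv j).1 (by_contra fun h => hj ((hF j).1 h))]
  have := h F b hdim hb
  rw [deg_eq, hveq, map_smul, LinearMap.smul_apply, smul_eq_mul] at this
  exact nonpos_of_mul_nonpos_right this ((hv l).2 ((hF l).2 rfl))

theorem deg_nonpos_iff (hd : IsCCS d) :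
    (∀ (F : Facet P) (b : P.Base), b ∈ F.cham → F.deg d b ≤ 0) ↔ IsSemistable d :=
  ⟨fun h => semistable_of_deg_dim_one hd fun F b _ => h F b,
    fun h F _ => deg_nonpos_of_semistable hd h F⟩

theorem deg_dim_one_nonpos_iff (hd : IsCCS d) :
    (∀ (F : Facet P) (b : P.Base), F.dim = 1 → b ∈ F.cham → F.deg d b ≤ 0) ↔ IsSemistable d :=
  ⟨semistable_of_deg_dim_one hd, fun h F _ _ => deg_nonpos_of_semistable hd h F⟩

/-! ### Special facets -/

theorem dualCarrier_subset_span (F : Facet P) : F.dualCarrier ⊆ Submodule.span R F.dualCarrier :=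
  Submodule.subset_span

theorem mem_yLocus_of_mem (hd : IsCCS d) {F : Facet P} {y : N}
    (hy : y ∈ dualSolid d F) (hy' : y ∈ Submodule.span R F.dualCarrier) : y ∈ yLocus d F := by
  rw [dualSolid_eq hd] at hy
  exact ⟨hy.1, hy'⟩

theorem yLocus_subsingleton {F : Facet P} {y z : N} (hy : y ∈ yLocus d F) (hz : z ∈ yLocus d F) :
    y = z := by
  obtain ⟨b, hb⟩ := cham_nonempty F
  have hu : y - z ∈ Submodule.span R F.dualCarrier := Submodule.sub_mem _ hy.2 hz.2
  have hkill : ∀ x ∈ Submodule.span R F.corners, P.toLinearMap x (y - z) = 0 := by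
    intro x hx
    induction hx using Submodule.span_induction with
    | mem m hm =>
      have hmc : m ∈ baseCorners b := ⟨hm.1, ((mem_closure_iff hb).1 hm.2).1⟩
      rw [map_sub, mem_iInter₂.1 hy.1 m hm b hmc, mem_iInter₂.1 hz.1 m hm b hmc, sub_self]
    | zero => simp
    | add _ _ _ _ h₁ h₂ => rw [map_add, LinearMap.add_apply, h₁, h₂, add_zero]
    | smul r _ _ h => rw [map_smul, LinearMap.smul_apply, h, smul_zero]
  set w : M := ∑ l : b.support,
    (P.root' l (y - z) / (P.RootForm (P.root l) (P.root l) / 2)) • fundWeight b l with hw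
  have hpol : P.Polarization w = y - z := eq_of_root'_eq b fun j => by
    have h := two_bf (P := P) j w
    rw [hw, coroot'_sum_smul_fundWeight] at h
    rw [root'_polarization, hw]
    have hne := (bf_self_pos (P := P) (j : ι)).ne'
    have e : P.root' j (y - z) / (P.RootForm (P.root j) (P.root j) / 2) *
        P.RootForm (P.root j) (P.root j) = 2 * P.root' j (y - z) := by field_simp
    rw [e] at h
    linarith
  have hwm : w ∈ Submodule.span R F.corners := (mem_span_corners_iff hb).2 fun j hj h0 => by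
    rw [hw, coroot'_sum_smul_fundWeight b _ ⟨j, hj⟩]
    rw [(mem_span_dualCarrier hb).1 hu j hj h0, zero_div]
  have h0 := hkill w hwm
  rw [← hpol, P.toLinearMap_apply_apply_Polarization] at h0
  have : w = 0 := by_contra fun hne => (rootForm_pos hne).ne' h0
  rw [this, map_zero] at hpol
  exact sub_eq_zero.1 hpol.symm

theorem special_point (hd : IsCCS d) {F : Facet P} {z : N} (hz : z ∈ F.dualCarrier)
    (hz' : z ∈ dualSolid d F) :
    yLocus d F = {z} ∧ F.dualCarrier ∩ dualSolid d F = {z} := by
  have hmem := mem_yLocus_of_mem hd hz' (Submodule.subset_span hz)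
  refine ⟨Set.ext fun y => ⟨fun hy => yLocus_subsingleton hy hmem, fun e => e ▸ hmem⟩,
    Set.ext fun y => ⟨fun hy => ?_, fun e => e ▸ ⟨hz, hz'⟩⟩⟩
  exact yLocus_subsingleton (mem_yLocus_of_mem hd hy.2 (Submodule.subset_span hy.1)) hmem

theorem exists_special_point (hd : IsCCS d) {F : Facet P} (hF : IsSpecial d F) :
    ∃ y₀ : N, yLocus d F = {y₀} ∧ F.dualCarrier ∩ dualSolid d F = {y₀} :=
  hF.elim fun z hz => ⟨z, special_point hd hz.1 hz.2⟩

section Metric

variable (B : LinearMap.BilinForm R N) (hBs : ∀ y z : N, B y z = B z y)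
  (hBp : ∀ y : N, y ≠ 0 → 0 < B y y)
  (hBi : ∀ (i : ι) (y z : N), B (P.coreflection i y) (P.coreflection i z) = B y z)

/-- The vector of `M` representing `B z`. -/
noncomputable def eta (z : N) : M := P.toPerfPair.symm (B z)

theorem toLinearMap_eta (z y : N) : P.toLinearMap (eta (P := P) B z) y = B z y := by
  rw [eta]
  exact LinearMap.congr_fun (P.toLinearMap.apply_symm_toPerfPair_self (B z)) y

include hBs hBp hBi in
theorem sgnVec_eta (z : N) : sgnVec P (eta (P := P) B z) = cosgnVec P z := funext fun i => by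
  have key : 2 * B (P.coroot i) z = P.root' i z * B (P.coroot i) (P.coroot i) := by
    have h := hBi i (P.coroot i) z
    rw [RootPairing.coreflection_apply_self, RootPairing.coreflection_apply, map_neg, map_sub,
      LinearMap.neg_apply, LinearMap.neg_apply, map_smul, smul_eq_mul] at h
    linarith
  have hp := hBp _ (P.flip.ne_zero i)
  show SignType.sign (P.toLinearMap (eta (P := P) B z) (P.coroot i)) = SignType.sign (P.root' i z)
  rw [toLinearMap_eta, hBs]
  change 0 < B (P.coroot i) (P.coroot i) at hp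
  rcases lt_trichotomy (P.root' i z) 0 with hl | hl | hl
  · rw [sign_neg hl, sign_neg (show B (P.coroot i) z < 0 by nlinarith)]
  · rw [hl, show B (P.coroot i) z = 0 by rw [hl] at key; linarith]
  · rw [sign_pos hl, sign_pos (show 0 < B (P.coroot i) z by nlinarith)]

include hBs hBp hBi in
theorem special_var (hd : IsCCS d) {F : Facet P} {z : N} (hz : z ∈ F.dualCarrier)
    (hz' : z ∈ dualSolid d F) {y : N} (hy : y ∈ solid d) : 0 ≤ B z (y - z) := by
  obtain ⟨b, hb⟩ := cham_nonempty F
  have hη : eta (P := P) B z ∈ F.carrier := (sgnVec_eta B hBs hBp hBi z).trans hz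
  have h2 : P.toLinearMap (eta (P := P) B z) z = P.toLinearMap (eta (P := P) B z) (d b) := by
    rw [dualSolid_eq hd] at hz'
    exact eq_of_mem_hyper hb hz'.1 (carrier_subset_span F hη)
  have h1 := le_of_mem_solid hd ((mem_carrier_iff hb).1 hη).1 hy
  rw [← h2, toLinearMap_eta, toLinearMap_eta] at h1
  rw [map_sub]
  linarith

include hBs hBp hBi in
theorem special_min (hd : IsCCS d) {F : Facet P} (hF : IsSpecial d F) :
    ∃ y₀ : N, yLocus d F = {y₀} ∧ y₀ ∈ solid d ∧
      ∀ y ∈ solid d, y ≠ y₀ → B y₀ y₀ < B y y := by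
  obtain ⟨z, hz, hz'⟩ := hF
  exact ⟨z, (special_point hd hz hz').1, dualSolid_subset_solid F hz',
    fun y hy hne => lt_of_var B hBs hBp (special_var B hBs hBp hBi hd hz hz' hy) hne⟩

include hBs hBp hBi in
theorem min_special (hd : IsCCS d) {z : N} (hz : z ∈ solid d)
    (hmin : ∀ y ∈ solid d, B z z ≤ B y y) {F : Facet P} (hF : z ∈ F.dualCarrier) :
    IsSpecial d F ∧ yLocus d F = {z} := by
  classical
  obtain ⟨b, hb⟩ := cham_nonempty F
  set η := eta (P := P) B z with hη_def
  have hη : η ∈ F.carrier := (sgnVec_eta B hBs hBp hBi z).trans hF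
  have hvar : ∀ b' : P.Base, P.toLinearMap η z ≤ P.toLinearMap η (d b') := fun b' => by
    have := variational B hBs hBp (convex_convexHull R _) hz hmin
      (subset_convexHull R _ (mem_range_self b'))
    rw [map_sub] at this
    rw [hη_def, toLinearMap_eta, toLinearMap_eta]
    linarith
  have hge : ∀ l : b.support, 0 ≤ P.toLinearMap (fundWeight b l) z -
      P.toLinearMap (fundWeight b l) (d b) := fun l =>
    sub_nonneg.2 (le_of_mem_solid hd (fundWeight_mem_closedChamber b l) hz)
  have hsum : ∑ l : b.support, P.coroot' l η * (P.toLinearMap (fundWeight b l) z -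
      P.toLinearMap (fundWeight b l) (d b)) ≤ 0 := by
    have h := hvar b
    rw [eq_sum_fundWeight b η] at h
    simp only [map_sum, map_smul, LinearMap.sum_apply, LinearMap.smul_apply, smul_eq_mul] at h
    simp only [mul_sub, Finset.sum_sub_distrib]
    linarith
  have hc := (mem_carrier_iff_sum hb).1 hη
  have hnn : ∀ l : b.support, 0 ≤ P.coroot' l η := fun l => ((mem_carrier_iff hb).1 hη).1 l l.2
  have hzero := (Finset.sum_eq_zero_iff_of_nonneg fun l _ => mul_nonneg (hnn l) (hge l)).1
    (le_antisymm hsum (Finset.sum_nonneg fun l _ => mul_nonneg (hnn l) (hge l)))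
  have hzd : z ∈ dualSolid d F := by
    rw [dualSolid_eq hd]
    refine ⟨mem_iInter₂.2 fun m hm b' hb' => ?_, mem_iInter₂.2 fun m _ b' hb' =>
      le_of_mem_solid hd hb'.2 hz⟩
    obtain ⟨l, hl, rfl⟩ := (corners_eq hb).subset hm
    rw [← pair_eq hd (fundWeight_mem_closedChamber b l) hb'.2]
    exact sub_eq_zero.1 ((mul_eq_zero.1 (hzero l (Finset.mem_univ _))).resolve_left ((hc l).2 hl).ne')
  exact ⟨⟨z, hF, hzd⟩, (special_point hd hF hzd).1⟩

end Metric

theorem existsUnique_special (hd : IsCCS d) : ∃! F : Facet P, IsSpecial d F := by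
  classical
  have := finite_base (P := P)
  let B : LinearMap.BilinForm R N := P.flip.RootForm
  have hBs : ∀ y z : N, B y z = B z y := fun y z => P.flip.rootForm_symmetric.eq y z
  have hBp : ∀ y : N, y ≠ 0 → 0 < B y y := fun y hy => rootForm_pos (P := P.flip) hy
  have hBi : ∀ (i : ι) (y z : N), B (P.coreflection i y) (P.coreflection i z) = B y z :=
    fun i y z => P.flip.rootForm_reflection_reflection_apply i y z
  obtain ⟨b₀⟩ := P.nonempty_base
  have hfin : (range d).Finite := finite_range d
  obtain ⟨z, hz, hmin⟩ := exists_nearest B hBs hBp hfin.toFinset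
    ⟨d b₀, hfin.mem_toFinset.2 (mem_range_self b₀)⟩
  rw [hfin.coe_toFinset] at hz hmin
  obtain ⟨ξ, hξ⟩ : ∃ ξ : M, cosgnVec P z = sgnVec P ξ :=
    ⟨eta (P := P) B z, (sgnVec_eta B hBs hBp hBi z).symm⟩
  have hF : z ∈ (Facet.ofVec P ξ).dualCarrier := hξ
  have hspec := (min_special B hBs hBp hBi hd hz hmin hF).1
  refine ⟨Facet.ofVec P ξ, hspec, fun G hG => ?_⟩
  obtain ⟨w, hw, hw'⟩ := hG
  have h1 := special_var B hBs hBp hBi hd hw hw' hz
  have : z = w := by
    by_contra hne
    have h2 := lt_of_var B hBs hBp h1 hne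
    have h3 := hmin w (dualSolid_subset_solid G hw')
    linarith
  subst this
  exact Facet.ext (hw.symm.trans hF)

theorem S1_S2_iff (hd : IsCCS d) (F : Facet P) :
    ((∀ m ∈ F.corners, ∀ b ∈ F.cham, 0 < F.numInv d m b) ∧
        (dualSolid d F ∩ (Submodule.span R F.dualCarrier : Set N)).Nonempty) ↔
      IsSpecial d F := by
  classical
  obtain ⟨b, hb⟩ := cham_nonempty F
  have key : ∀ y ∈ dualSolid d F, y ∈ (Submodule.span R F.dualCarrier : Set N) →
      ∀ (l : b.support), F.sgn l ≠ 0 → ∀ b' ∈ F.cham, F.numInv d (fundWeight b l) b' =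
        (Set.toFinite (F.Psi (fundWeight b l))).toFinset.card * P.root' l y := by
    intro y hy hy' l hl b' hb'
    have hm : fundWeight b l ∈ F.corners := by rw [corners_eq hb]; exact ⟨l, hl, rfl⟩
    rw [numInv_eq]
    have h1 : P.toLinearMap (psiSum F (fundWeight b l)) (d b') =
        P.toLinearMap (psiSum F (fundWeight b l)) y := by
      rw [dualSolid_eq hd] at hy
      exact (eq_of_mem_hyper hb' hy.1 (psiSum_mem F hm)).symm
    rw [h1, psiSum, map_sum, LinearMap.sum_apply, ← nsmul_eq_mul]
    refine Finset.sum_eq_card_nsmul fun i hi => ?_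
    rw [Set.Finite.mem_toFinset, mem_Psi_iff hb] at hi
    rw [root_eq_sum b i, map_sum, LinearMap.sum_apply, Finset.sum_eq_single l]
    · rw [map_smul, LinearMap.smul_apply, hi.1, one_smul]
    · intro l' _ hne
      rw [map_smul, LinearMap.smul_apply]
      by_cases hl' : F.sgn l' = 0
      · rw [show P.toLinearMap (P.root l') y = 0 from (mem_span_dualCarrier hb).1 hy' l' l'.2 hl',
          smul_zero]
      · rw [hi.2 l' hl' hne, zero_smul]
    · simp
  have hcard : ∀ l : b.support,
      (0 : R) < (Set.toFinite (F.Psi (fundWeight b l))).toFinset.card := fun l =>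
    Nat.cast_pos.2 (Finset.card_pos.2 ⟨l, (Set.Finite.mem_toFinset _).2 (self_mem_Psi hb l)⟩)
  constructor
  · rintro ⟨h1, y, hy, hy'⟩
    refine ⟨y, (mem_dualCarrier_iff hb).2 fun l => ⟨(mem_span_dualCarrier hb).1 hy' l l.2, fun hl => ?_⟩, hy⟩
    have := h1 _ (by rw [corners_eq hb]; exact ⟨l, hl, rfl⟩) b hb
    rw [key y hy hy' l hl b hb] at this
    exact (mul_pos_iff_of_pos_left (hcard l)).1 this
  · rintro ⟨y, hy', hy⟩
    refine ⟨fun m hm b' hb' => ?_, y, hy, Submodule.subset_span hy'⟩
    obtain ⟨l, hl, rfl⟩ := (corners_eq hb).subset hm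
    rw [key y hy (Submodule.subset_span hy') l hl b' hb']
    exact mul_pos (hcard l) (((mem_dualCarrier_iff hb).1 hy' l).2 hl)

theorem special_maximal (hd : IsCCS d) {F : Facet P} {b : P.Base} (hb : b ∈ F.cham)
    (hF : IsSpecial d F) :
    (∀ (G : Facet P) (c : P.Base), c ∈ G.cham → G.deg d c ≤ F.deg d b) ∧
      ∀ (G : Facet P) (c : P.Base), c ∈ G.cham → G.deg d c = F.deg d b → G ≤ F := by
  classical
  obtain ⟨z, hz, hz'⟩ := hF
  have hsplit : ∀ H : Facet P, P.toLinearMap (parabSum H) z =
      ∑ i, if i ∈ H.parab then P.root' i z else 0 := fun H => by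
    rw [parabSum, map_sum, LinearMap.sum_apply, ← Finset.sum_filter]
    refine Finset.sum_congr (Finset.ext fun i => by simp) fun i _ => rfl
  have hdegF : F.deg d b = P.toLinearMap (parabSum F) z := by
    rw [deg_eq]
    have hy := hz'
    rw [dualSolid_eq hd] at hy
    exact (eq_of_mem_hyper hb hy.1 (parabSum_mem_span F)).symm
  have hsgn : ∀ i, SignType.sign (P.root' i z) = F.sgn i := congrFun hz
  have hmem : ∀ i, i ∈ F.parab ↔ 0 ≤ P.root' i z := fun i => by
    show F.sgn i ≠ -1 ↔ _
    rw [← hsgn i, Ne, sign_eq_neg_one_iff, not_lt]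
  have hterm : ∀ (G : Facet P) i, (if i ∈ G.parab then P.root' i z else 0) ≤
      if i ∈ F.parab then P.root' i z else 0 := fun G i => by
    simp only [hmem]
    split_ifs <;> linarith
  have hle : ∀ (G : Facet P) (c : P.Base), c ∈ G.cham →
      G.deg d c ≤ P.toLinearMap (parabSum G) z := fun G c hc => by
    rw [deg_eq]
    exact le_of_mem_solid hd ((mem_carrier_iff hc).1 (parabSum_mem G)).1
      (dualSolid_subset_solid F hz')
  refine ⟨fun G c hc => (hle G c hc).trans ?_, fun G c hc he => ?_⟩
  · rw [hdegF, hsplit, hsplit]; exact Finset.sum_le_sum fun i _ => hterm G i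
  · have h1 := hle G c hc
    rw [he, hdegF, hsplit, hsplit] at h1
    have heq := (Finset.sum_eq_sum_iff_of_le fun i _ => hterm G i).1
      (le_antisymm (Finset.sum_le_sum fun i _ => hterm G i) h1)
    refine le_iff_parab.2 fun i hi => (hmem i).2 ?_
    by_contra hn
    have := heq i (Finset.mem_univ i)
    rw [if_pos hi, if_neg (fun h => hn ((hmem i).1 h))] at this
    exact hn this.ge

theorem maximal_special (hd : IsCCS d) {F : Facet P} {b : P.Base} (hb : b ∈ F.cham)
    (hmax : ∀ (G : Facet P) (c : P.Base), c ∈ G.cham → G.deg d c ≤ F.deg d b)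
    (hmaxl : ∀ (G : Facet P) (c : P.Base), c ∈ G.cham → G.deg d c = F.deg d b → F ≤ G → G = F) :
    IsSpecial d F := by
  obtain ⟨G, hG, -⟩ := existsUnique_special hd
  obtain ⟨c, hc⟩ := cham_nonempty G
  have h1 := special_maximal hd hc hG
  have he : G.deg d c = F.deg d b := le_antisymm (hmax G c hc) (h1.1 F b hb)
  exact hmaxl G c hc he (h1.2 F b hb he.symm) ▸ hG

end GrothLib.RootCh
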